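import Mathlib.FieldTheory.Finite.Basic
import Mathlib.LinearAlgebra.LinearIndependent.Lemmas
import Mathlib.Algebra.Module.ZMod
import Mathlib.Algebra.Algebra.ZMod
import Mathlib.RingTheory.IntegralDomain
import Mathlib.LinearAlgebra.Dimension.Finite

/-!
# No equivariant alternating trilinear form through a module of the order of the field

For `q = 3^f`, biadditive `c : F × F → L`, `B : L × F → F` with `|L| = q`, an irreducible action of
`Fˣ` on `L`, `c (α x, α y) = α • c (x, y)`, `B (α • u, α z) = μ α · B (u, z)` with `μ` injective, the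
composite `B (c (x, y), z)` is not alternating unless it vanishes.  The monomials `x^(3^a) y^(3^b) z^(3^c)`
that occur have `a, b, c` in arithmetic progression in `ℤ/f` with `3 (b - a) = 0`, and `μ` is then fixed
by a Frobenius.

Owner: helper68.
-/

set_option autoImplicit false
set_option linter.style.haveILetI false
set_option linter.unusedSectionVars false

namespace Cfsg.Agent.Lib.ReeNine68

variable {F : Type*} [Field F] [Fintype F] [CharP F 3] {f : ℕ} [NeZero f]
  (hF : Fintype.card F = 3 ^ f)

/-- A power of the Frobenius, indexed modulo `f`. -/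
noncomputable def frob (i : ZMod f) (x : F) : F := x ^ 3 ^ i.val

theorem frob_zero_apply (i : ZMod f) : frob i (0 : F) = 0 :=
  zero_pow (pow_ne_zero _ (by norm_num))

theorem frob_add_apply (i : ZMod f) (x y : F) : frob i (x + y) = frob i x + frob i y := by
  haveI : ExpChar F 3 := ExpChar.prime Nat.prime_three
  exact add_pow_expChar_pow x y 3 i.val

theorem frob_mul (i : ZMod f) (x y : F) : frob i (x * y) = frob i x * frob i y := mul_pow _ _ _

include hF

theorem frob_frob (i j : ZMod f) (x : F) : frob i (frob j x) = frob (j + i) x := by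
  rw [frob, frob, frob, ← pow_mul, ← pow_add, ZMod.val_add]
  conv_lhs => rw [← Nat.mod_add_div (j.val + i.val) f, pow_add, pow_mul, pow_mul (3 : ℕ), ← hF,
    FiniteField.pow_card_pow]

theorem exists_gen : ∃ g : Fˣ, orderOf g = 3 ^ f - 1 := by
  classical
  obtain ⟨g, hg⟩ := IsCyclic.exists_ofOrder_eq_natCard (α := Fˣ)
  exact ⟨g, by rw [hg, Nat.card_eq_fintype_card, Fintype.card_units, hF]⟩

theorem exp_lt (hf : 2 ≤ f) (i : ZMod f) : 3 * 3 ^ i.val ≤ 3 ^ f := by
  rw [← pow_succ']
  exact Nat.pow_le_pow_right (by norm_num) (ZMod.val_lt i)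

/-- The powers are different. -/
theorem frob_inj (hf : 2 ≤ f) {i j : ZMod f} (h : ∀ x : F, frob i x = frob j x) : i = j := by
  obtain ⟨g, hg⟩ := exists_gen hF
  have e : g ^ 3 ^ i.val = g ^ 3 ^ j.val := Units.ext (by simpa [frob] using h (g : F))
  have hi := exp_lt hF hf i
  have hj := exp_lt hF hf j
  have h9 : 9 ≤ 3 ^ f := le_trans (by norm_num) (Nat.pow_le_pow_right (by norm_num : 1 ≤ 3) hf)
  have := pow_injOn_Iio_orderOf (x := g) (by simp only [Set.mem_Iio, hg]; omega)
    (by simp only [Set.mem_Iio, hg]; omega) e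
  exact ZMod.val_injective f (Nat.pow_right_injective (by norm_num) this)

/-- A pair of powers is determined by the product. -/
theorem pair_unique (hf : 2 ≤ f) {a b a' b' : ZMod f} (hab : a ≠ b) (hab' : a' ≠ b')
    (h : ∀ x : F, frob a x * frob b x = frob a' x * frob b' x) :
    (a = a' ∧ b = b') ∨ (a = b' ∧ b = a') := by
  obtain ⟨g, hg⟩ := exists_gen hF
  have e : g ^ (3 ^ a.val + 3 ^ b.val) = g ^ (3 ^ a'.val + 3 ^ b'.val) :=
    Units.ext (by simpa [frob, pow_add] using h (g : F))
  have h1 := exp_lt hF hf a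
  have h2 := exp_lt hF hf b
  have h3 := exp_lt hF hf a'
  have h4 := exp_lt hF hf b'
  have h9 : 9 ≤ 3 ^ f := le_trans (by norm_num) (Nat.pow_le_pow_right (by norm_num : 1 ≤ 3) hf)
  have key := pow_injOn_Iio_orderOf (x := g) (by simp only [Set.mem_Iio, hg]; omega)
    (by simp only [Set.mem_Iio, hg]; omega) e
  have aux : ∀ i j k l : ℕ, i < j → k < l → 3 ^ i + 3 ^ j = 3 ^ k + 3 ^ l → i = k ∧ j = l := by
    intro i j k l hij hkl he
    have hjl : j = l := by
      by_contra hne
      rcases Nat.lt_or_gt_of_ne hne with hlt | hlt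
      · have := Nat.pow_le_pow_right (show 1 ≤ 3 by norm_num) (show j + 1 ≤ l by omega)
        have := Nat.pow_lt_pow_right (show 1 < 3 by norm_num) hij
        rw [pow_succ] at *
        have := Nat.one_le_pow k 3 (by norm_num)
        omega
      · have := Nat.pow_le_pow_right (show 1 ≤ 3 by norm_num) (show l + 1 ≤ j by omega)
        have := Nat.pow_lt_pow_right (show 1 < 3 by norm_num) hkl
        rw [pow_succ] at *
        have := Nat.one_le_pow i 3 (by norm_num)
        omega
    subst hjl
    exact ⟨Nat.pow_right_injective (le_refl 2 |>.trans (by norm_num : 2 ≤ 3)) (by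
      show (3 : ℕ) ^ i = 3 ^ k; omega), rfl⟩
  have ha : a.val ≠ b.val := fun e' => hab (ZMod.val_injective f e')
  have ha' : a'.val ≠ b'.val := fun e' => hab' (ZMod.val_injective f e')
  have inj := ZMod.val_injective f
  rcases Nat.lt_or_gt_of_ne ha with l1 | l1 <;> rcases Nat.lt_or_gt_of_ne ha' with l2 | l2
  · exact Or.inl ((aux _ _ _ _ l1 l2 key).imp (fun e => inj e) fun e => inj e)
  · exact Or.inr ((aux _ _ _ _ l1 l2 (key.trans (add_comm _ _))).imp (fun e => inj e) fun e => inj e)
  · exact Or.inr ((aux _ _ _ _ l1 l2 ((add_comm _ _).trans key)).symm.imp (fun e => inj e) fun e => inj e)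
  · exact Or.inl ((aux _ _ _ _ l1 l2 (by omega)).symm.imp (fun e => inj e) fun e => inj e)

/-- The coefficients of an additive map are unique. -/
theorem coeff_unique (hf : 2 ≤ f) {k : ZMod f → F} (h : ∀ x : F, ∑ i, k i * frob i x = 0)
    (i : ZMod f) : k i = 0 := by
  let φ : ZMod f → (F →* F) := fun i => powMonoidHom (3 ^ i.val)
  have hφ : Function.Injective φ := fun i j e => frob_inj hF hf fun x => DFunLike.congr_fun e x
  have hli := (linearIndependent_monoidHom F F).comp φ hφ
  refine (Fintype.linearIndependent_iff.1 hli) k (funext fun x => ?_) i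
  simpa [φ, frob, Finset.sum_apply] using h x

/-- Every additive map is a combination of powers of the Frobenius. -/
theorem exists_coeff_add (hf : 2 ≤ f) (g : F →+ F) : ∃ k : ZMod f → F, ∀ x, g x = ∑ i, k i * frob i x := by
  classical
  letI : Algebra (ZMod 3) F := ZMod.algebra F 3
  haveI : Fact (Nat.Prime 3) := ⟨Nat.prime_three⟩
  let b := Module.finBasis (ZMod 3) F
  have hr : Module.finrank (ZMod 3) F = f := by
    have := Module.card_eq_pow_finrank (K := ZMod 3) (V := F)
    rw [hF, ZMod.card] at this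
    exact (Nat.pow_right_injective (by norm_num) this).symm
  let Φ : (F →+ F) → (Fin (Module.finrank (ZMod 3) F) → F) := fun g i => g (b i)
  have hΦ : Function.Injective Φ := fun g g' e => by
    have hl : g.toZModLinearMap 3 = g'.toZModLinearMap 3 := b.ext fun i => congrFun e i
    exact AddMonoidHom.ext fun x => LinearMap.congr_fun hl x
  haveI : Finite (F →+ F) := Finite.of_injective Φ hΦ
  let Ψ : (ZMod f → F) → (F →+ F) := fun k =>
    { toFun := fun x => ∑ i, k i * frob i x
      map_zero' := by simp [frob_zero_apply]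
      map_add' := fun x y => by simp [frob_add_apply, mul_add, Finset.sum_add_distrib] }
  have hΨ : Function.Injective Ψ := fun k k' e => funext fun i => sub_eq_zero.1 <|
    coeff_unique hF hf (k := fun i => k i - k' i) (fun x => by
      have := DFunLike.congr_fun e x
      simp only [Ψ, AddMonoidHom.coe_mk, ZeroHom.coe_mk] at this
      simp [sub_mul, Finset.sum_sub_distrib, this]) i
  have hle : Nat.card (F →+ F) ≤ Nat.card (ZMod f → F) := by
    refine (Nat.card_le_card_of_injective Φ hΦ).trans (le_of_eq ?_)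
    rw [Nat.card_fun, Nat.card_fun, Nat.card_fin, Nat.card_zmod, hr]
  obtain ⟨k, hk⟩ := ((Nat.bijective_iff_injective_and_card Ψ).2
    ⟨hΨ, le_antisymm (Nat.card_le_card_of_injective Ψ hΨ) hle⟩).2 g
  exact ⟨k, fun x => by rw [← hk]; rfl⟩

/-- The coefficients of a biadditive map are unique. -/
theorem coeff_unique₂ (hf : 2 ≤ f) {k : ZMod f → ZMod f → F}
    (h : ∀ x y : F, ∑ a, ∑ b, k a b * frob a x * frob b y = 0) (a b : ZMod f) : k a b = 0 := by
  refine coeff_unique hF hf (k := fun a => k a b) (fun x => ?_) a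
  refine coeff_unique hF hf (k := fun b => ∑ a, k a b * frob a x) (fun y => ?_) b
  rw [← h x y, Finset.sum_comm]
  simp only [Finset.sum_mul]

set_option maxHeartbeats 800000 in
/-- No equivariant alternating form. -/
theorem absurd_of_alternating (hf : 2 ≤ f) {L : Type*} [AddCommGroup L]
    (hL : Nat.card L = Fintype.card F) (act : Fˣ → L → L)
    (hirr : ∀ S : AddSubgroup L, (∀ α, ∀ u ∈ S, act α u ∈ S) → S = ⊥ ∨ S = ⊤)
    (c : F →+ F →+ L) (B : L →+ F →+ F) (μ : Fˣ →* Fˣ) (hμ : Function.Injective μ)
    (hc : ∀ (α : Fˣ) x y, c (α * x) (α * y) = act α (c x y))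
    (hB : ∀ (α : Fˣ) u z, B (act α u) (α * z) = μ α * B u z)
    (hskew : ∀ x y, c y x = -c x y) (halt : ∀ x y z, B (c x z) y = -B (c x y) z)
    (hne : ∃ x y z, B (c x y) z ≠ 0) : False := by
  classical
  haveI : Finite L := Nat.finite_of_card_ne_zero (by rw [hL]; exact Fintype.card_ne_zero)
  choose π hπ using fun u => exists_coeff_add hF hf (B u)
  let Pc : ZMod f → L →+ F := fun i => AddMonoidHom.mk' (fun u => π u i) fun u v => by
    refine sub_eq_zero.1 (coeff_unique hF hf (k := fun i => π (u + v) i - (π u i + π v i)) (fun x => ?_) i)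
    simp [sub_mul, add_mul, Finset.sum_sub_distrib, Finset.sum_add_distrib, ← hπ]
  have hact : ∀ (α : Fˣ) u i, Pc i (act α u) * frob i (α : F) = μ α * Pc i u := fun α u i => by
    refine sub_eq_zero.1 (coeff_unique hF hf
      (k := fun i => Pc i (act α u) * frob i (α : F) - μ α * Pc i u) (fun z => ?_) i)
    have e := hB α u z
    rw [hπ, hπ, Finset.mul_sum] at e
    rw [← sub_eq_zero.2 e, ← Finset.sum_sub_distrib]
    exact Finset.sum_congr rfl fun j _ => by simp only [Pc, AddMonoidHom.mk'_apply, frob_mul]; ring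
  choose K₁ hK₁ using fun (i : ZMod f) (x : F) => exists_coeff_add hF hf ((Pc i).comp (c x))
  let K₁' : ZMod f → ZMod f → F →+ F := fun i b => AddMonoidHom.mk' (fun x => K₁ i x b) fun x x' => by
    refine sub_eq_zero.1 (coeff_unique hF hf
      (k := fun b => K₁ i (x + x') b - (K₁ i x b + K₁ i x' b)) (fun y => ?_) b)
    simp [sub_mul, add_mul, Finset.sum_sub_distrib, Finset.sum_add_distrib, ← hK₁]
  choose K hK using fun i b => exists_coeff_add hF hf (K₁' i b)
  -- `K i b a` is the coefficient of `x^a y^b z^i`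
  have hform : ∀ i x y, Pc i (c x y) = ∑ a, ∑ b, K i b a * frob a x * frob b y := fun i x y => by
    rw [Finset.sum_comm]
    refine (hK₁ i x y).trans (Finset.sum_congr rfl fun b _ => ?_)
    rw [← Finset.sum_mul]
    exact congrArg (· * frob b y) (hK i b x)
  have hsk : ∀ i a b, K i b a = -K i a b := fun i a b => by
    refine eq_neg_of_add_eq_zero_left (coeff_unique₂ hF hf (k := fun a b => K i b a + K i a b) (fun x y => ?_) a b)
    simp only [add_mul, Finset.sum_add_distrib, ← hform]
    conv_lhs => arg 2; rw [Finset.sum_comm]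
    have : ∑ a, ∑ b, K i b a * frob b x * frob a y = Pc i (c y x) := by
      rw [hform]
      exact Finset.sum_congr rfl fun a _ => Finset.sum_congr rfl fun b _ => by ring
    rw [show (∑ y_1, ∑ x_1, K i x_1 y_1 * frob x_1 x * frob y_1 y) = Pc i (c y x) from this, hskew x y,
      map_neg, add_neg_cancel]
  have htau : ∀ x y z, B (c x y) z = ∑ i, ∑ a, ∑ b, K i b a * frob a x * frob b y * frob i z := by
    intro x y z
    rw [hπ]
    refine Finset.sum_congr rfl fun i _ => ?_
    rw [show π (c x y) i = Pc i (c x y) from rfl, hform, Finset.sum_mul]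
    exact Finset.sum_congr rfl fun a _ => Finset.sum_mul _ _ _
  have hal : ∀ i a b, K b i a = -K i b a := fun i a b => by
    refine eq_neg_of_add_eq_zero_left ?_
    refine coeff_unique₂ hF hf (k := fun a b => K b i a + K i b a) (fun x y => ?_) a b
    refine coeff_unique hF hf
      (k := fun i => ∑ a, ∑ b, (K b i a + K i b a) * frob a x * frob b y) (fun z => ?_) i
    have e1 : ∑ i, ∑ a, ∑ b, K b i a * frob a x * frob b y * frob i z = B (c x z) y := by
      rw [htau, Finset.sum_comm]
      conv_rhs => rw [Finset.sum_comm]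
      refine Finset.sum_congr rfl fun a _ => ?_
      rw [Finset.sum_comm]
      exact Finset.sum_congr rfl fun b _ => Finset.sum_congr rfl fun i _ => by ring
    simp only [Finset.sum_mul, add_mul, Finset.sum_add_distrib]
    rw [e1, ← htau, halt x y z, neg_add_cancel]
  have h2 : (2 : F) ≠ 0 := fun e => by
    have h3 : (3 : F) = 0 := by exact_mod_cast CharP.cast_eq_zero F 3
    exact one_ne_zero (α := F) (by linear_combination h3 - e)
  have hdist : ∀ i a b, K i b a ≠ 0 → a ≠ b ∧ i ≠ b ∧ i ≠ a := by
    intro i a b hk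
    have key : ∀ z : F, z = -z → z = 0 := fun z e =>
      (mul_eq_zero.1 (show 2 * z = 0 by linear_combination e)).resolve_left h2
    refine ⟨?_, ?_, ?_⟩
    · rintro rfl; exact hk (key _ (hsk i a a))
    · rintro rfl; exact hk (key _ (hal i a i))
    · rintro rfl
      rw [hsk i i b] at hk
      exact hk (neg_eq_zero.2 (key _ (hal i b i)))
  -- weights
  have hwt : ∀ i a b, K i b a ≠ 0 → ∀ α : Fˣ,
      frob a (α : F) * frob b (α : F) * frob i (α : F) = μ α := by
    intro i a b hk α
    have := coeff_unique₂ hF hf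
      (k := fun a b => K i b a * (frob a (α : F) * frob b (α : F) * frob i (α : F) - μ α)) (fun x y => ?_) a b
    · exact sub_eq_zero.1 ((mul_eq_zero.1 this).resolve_left hk)
    · have e := hact α (c x y) i
      rw [← hc, hform, hform, Finset.sum_mul, Finset.mul_sum] at e
      rw [← sub_eq_zero.2 e, ← Finset.sum_sub_distrib]
      refine Finset.sum_congr rfl fun a _ => ?_
      rw [Finset.sum_mul, Finset.mul_sum, ← Finset.sum_sub_distrib]
      exact Finset.sum_congr rfl fun b _ => by rw [frob_mul, frob_mul]; ring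
  have hbij : ∀ i a b, K i b a ≠ 0 → Function.Bijective (Pc i) := by
    intro i a b hk
    refine (Nat.bijective_iff_injective_and_card (Pc i)).2 ⟨?_, by rw [hL, Nat.card_eq_fintype_card]⟩
    have hinv : ∀ α, ∀ u ∈ (Pc i).ker, act α u ∈ (Pc i).ker := fun α u hu => by
      have e := hact α u i
      rw [AddMonoidHom.mem_ker] at hu ⊢
      rw [hu, mul_zero] at e
      exact (mul_eq_zero.1 e).resolve_right (pow_ne_zero _ (Units.ne_zero α))
    rcases hirr (Pc i).ker hinv with hb | ht
    · exact (Pc i).ker_eq_bot_iff.1 hb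
    · exfalso
      refine hk (coeff_unique₂ hF hf (k := fun a b => K i b a) (fun x y => ?_) a b)
      rw [← hform]
      exact AddMonoidHom.mem_ker.1 (ht.ge (AddSubgroup.mem_top _))
  -- pairs are translates of each other
  have hshift : ∀ i i' a b a' b', K i b a ≠ 0 → K i' b' a' ≠ 0 →
      ∃ j : ZMod f, (a' = a + j ∧ b' = b + j) ∨ (a' = b + j ∧ b' = a + j) := by
    intro i i' a b a' b' hk hk'
    let e := AddEquiv.ofBijective (Pc i) (hbij i a b hk)
    obtain ⟨ν, hν⟩ := exists_coeff_add hF hf ((Pc i').comp e.symm.toAddMonoidHom)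
    have hν' : ∀ u, Pc i' u = ∑ j, ν j * frob j (Pc i u) := fun u => by
      rw [← hν]
      exact congrArg (Pc i') (e.symm_apply_apply u).symm
    by_contra hno
    push Not at hno
    refine hk' ?_
    have hzero : ∀ j, K i (b' - j) (a' - j) = 0 := fun j => by
      by_contra hkj
      have hd := hdist _ _ _ hkj
      have hp : ∀ x : F, frob (a' - j) x * frob (b' - j) x = frob a x * frob b x := fun x => by
        rcases eq_or_ne x 0 with rfl | hx
        · simp [frob_zero_apply]
        · exact mul_right_cancel₀ (pow_ne_zero (3 ^ i.val) hx)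
            ((hwt _ _ _ hkj (Units.mk0 x hx)).trans (hwt i a b hk (Units.mk0 x hx)).symm)
      rcases pair_unique hF hf hd.1 (hdist i a b hk).1 hp with ⟨e1, e2⟩ | ⟨e1, e2⟩
      · exact (hno j).1 (sub_eq_iff_eq_add.1 e1) (sub_eq_iff_eq_add.1 e2)
      · exact (hno j).2 (sub_eq_iff_eq_add.1 e1) (sub_eq_iff_eq_add.1 e2)
    have := coeff_unique₂ hF hf
      (k := fun a₁ b₁ => K i' b₁ a₁ - ∑ j, ν j * frob j (K i (b₁ - j) (a₁ - j))) (fun x y => ?_) a' b'
    · simpa [hzero, frob_zero_apply] using this
    · simp only [sub_mul, Finset.sum_sub_distrib, ← hform, hν' (c x y)]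
      rw [sub_eq_zero]
      simp only [hform, Finset.sum_mul]
      have hsum : ∀ (j : ZMod f) (g : ZMod f → F), frob j (∑ a, g a) = ∑ a, frob j (g a) := fun j g =>
        map_sum (AddMonoidHom.mk' (frob j) (frob_add_apply j)) g _
      simp only [hsum, Finset.mul_sum, frob_mul, frob_frob hF]
      rw [eq_comm]
      refine (Finset.sum_congr rfl fun a _ => Finset.sum_comm).trans (Finset.sum_comm.trans ?_)
      refine Finset.sum_congr rfl fun j _ => ?_
      refine Fintype.sum_equiv (Equiv.subRight j) _ _ fun a₁ => ?_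
      refine Fintype.sum_equiv (Equiv.subRight j) _ _ fun b₁ => ?_
      simp only [Equiv.subRight_apply, sub_add_cancel]
      ring
  obtain ⟨x, y, z, hxyz⟩ := hne
  obtain ⟨i, a, b, hk⟩ : ∃ i a b, K i b a ≠ 0 := by
    by_contra hno
    push Not at hno
    exact hxyz (by rw [htau]; simp [hno])
  obtain ⟨hab, hib, hia⟩ := hdist i a b hk
  have hk1 : K b i a ≠ 0 := by rw [hal i a b]; exact neg_ne_zero.2 hk
  have hk2 : K a i b ≠ 0 := by rw [hal i b a]; exact neg_ne_zero.2 (by rw [hsk i b a]; exact neg_ne_zero.2 hk)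
  obtain ⟨j, hj⟩ := hshift i b a b a i hk hk1
  obtain ⟨j', hj'⟩ := hshift i a a b b i hk hk2
  have h1 : i = a + j ∧ a = b + j := by
    rcases hj with ⟨e1, e2⟩ | ⟨e1, e2⟩
    · exfalso
      have hj0 : j = 0 := by linear_combination -e1
      exact hib (by rw [e2, hj0, add_zero])
    · exact ⟨e2, e1⟩
  have h3 : b = a + j' ∧ i = b + j' := by
    rcases hj' with ⟨e1, e2⟩ | ⟨e1, e2⟩
    · exact ⟨e1, e2⟩
    · exfalso
      have hj0 : j' = 0 := by linear_combination -e1
      exact hia (by rw [e2, hj0, add_zero])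
  have e1 : a + j' = b := h3.1.symm
  have e2 : b + j' = i := h3.2.symm
  have e3 : i + j' = a := by linear_combination h1.1 - h1.2 - h3.1
  refine hab ?_
  suffices j' = 0 by rw [← e1, this, add_zero]
  refine (frob_inj hF hf (i := j') (j := 0) fun x => ?_)
  rw [show frob (0 : ZMod f) x = x by simp [frob]]
  rcases eq_or_ne x 0 with rfl | hx
  · exact frob_zero_apply j'
  haveI : Finite Fˣ := inferInstance
  obtain ⟨α, hα⟩ := (Finite.injective_iff_surjective.1 hμ) (Units.mk0 x hx)
  have hw := hwt i a b hk α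
  rw [hα, Units.val_mk0] at hw
  rw [← hw, frob_mul, frob_mul, frob_frob hF, frob_frob hF, frob_frob hF, e1, e2, e3]
  ring

end Cfsg.Agent.Lib.ReeNine68
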