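import Cfsg.Agent.Lib.ReeTorus80.Main

/-!
# Ree order: the Sylow subgroups for the primes dividing `q² - q + 1`

Owner: helper68.
-/

set_option autoImplicit false
set_option linter.style.haveILetI false
set_option linter.unusedSectionVars false

namespace Cfsg.Agent.Lib.ReeNine68

open Subgroup Cfsg.Agent.Lib.AllAbelian80.Ree
open Cfsg.Agent.Lib.ReeTorus80

variable {G : Type*} [Group G] [Fintype G] {q d r : ℕ} {t s : G} {E U T P N M Y W : Subgroup G}
  (h : Setting G q d t s E U T P N M Y W)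

include h

/-- `r` is at least three. -/
theorem three_le_r (hr : q = 3 * r ^ 2) : 3 ≤ r := by
  have hq := h.q_eq
  have hd := h.d_big
  obtain ⟨f, hf⟩ := h.ree.pow3
  rcases r with _ | _ | _ | r
  · norm_num at hr; omega
  · norm_num at hr; omega
  · norm_num at hr; omega
  · omega

theorem q_big (hr : q = 3 * r ^ 2) : 27 ≤ q := by
  have := three_le_r h hr
  nlinarith

/-- `q² - q + 1 = (q + 1 + 3 r)(q + 1 - 3 r)`, the factors coprime. -/
theorem torus_arith (hr : q = 3 * r ^ 2) :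
    3 * r ≤ q + 1 ∧ (q + 1 + 3 * r) * (q + 1 - 3 * r) = q ^ 2 - q + 1 ∧
      (q + 1 + 3 * r).Coprime (q + 1 - 3 * r) := by
  have h3 := three_le_r h hr
  have hle : q ≤ q ^ 2 := Nat.le_self_pow two_ne_zero q
  have hlr : 3 * r ≤ q + 1 := by nlinarith
  have hprod : (q + 1 + 3 * r) * (q + 1 - 3 * r) = q ^ 2 - q + 1 := by
    zify [hlr, hle]
    have hrZ : (q : ℤ) = 3 * (r : ℤ) ^ 2 := by exact_mod_cast hr
    linear_combination (3 : ℤ) * hrZ
  refine ⟨hlr, hprod, Nat.coprime_of_dvd fun l hl h1 h2 => ?_⟩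
  have hlm : l ∣ q ^ 2 - q + 1 := hprod ▸ h1.mul_right _
  have h6 : l ∣ 6 * r := by
    rw [show 6 * r = (q + 1 + 3 * r) - (q + 1 - 3 * r) by omega]
    exact Nat.dvd_sub h1 h2
  refine hl.one_lt.ne' (Nat.eq_one_of_dvd_coprimes h.cop.2 hlm ?_)
  refine (h6.trans (show 6 * r ∣ 2 * q * r from ⟨r ^ 2, by rw [hr]; ring⟩)).trans ?_
  exact (show 2 * q * r ∣ 2 * q * q from mul_dvd_mul_left _ (hr ▸ ⟨3 * r, by ring⟩)).trans
    ⟨q * d * (q + 1), by ring⟩

/-- The centraliser of an element of order dividing `n` has order dividing `n`. -/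
theorem cent_part {n n' : ℕ} (hnn : n.Coprime n') (hnm : n * n' = q ^ 2 - q + 1)
    (hno : ∀ x : G, x ≠ 1 → orderOf x ∣ q ^ 2 - q + 1 → orderOf x ∣ n ∨ orderOf x ∣ n')
    {x : G} (h1 : x ≠ 1) (hx : orderOf x ∣ n) : Nat.card (centralizer ({x} : Set G)) ∣ n := by
  have hxm : orderOf x ∣ q ^ 2 - q + 1 := hx.trans (hnm ▸ dvd_mul_right n n')
  refine Nat.Coprime.dvd_of_dvd_mul_right (Nat.coprime_of_dvd fun l hl hl1 hl2 => ?_)
    ((h.cent_reg h1 hxm).trans (dvd_of_eq hnm.symm))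
  haveI : Fact l.Prime := ⟨hl⟩
  obtain ⟨⟨y, hy⟩, hy'⟩ := exists_prime_orderOf_dvd_card' l hl1
  rw [Subgroup.orderOf_mk] at hy'
  have hcp : (orderOf x).Coprime (orderOf y) :=
    hy' ▸ (hnn.coprime_dvd_left hx).coprime_dvd_right hl2
  have ho := (show Commute x y from (mem_centralizer_singleton_iff.1 hy).symm
    ).orderOf_mul_eq_mul_orderOf_of_coprime hcp
  have hxy1 : x * y ≠ 1 := fun e => by
    rw [e, orderOf_one] at ho
    exact h1 (orderOf_eq_one_iff.1 (Nat.eq_one_of_mul_eq_one_right ho.symm))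
  rcases hno _ hxy1 (by rw [ho, ← hnm, hy']; exact mul_dvd_mul hx hl2) with h' | h'
  · rw [ho] at h'
    have := Nat.eq_one_of_dvd_coprimes hnn ((dvd_mul_left _ _).trans h') (hy' ▸ hl2)
    rw [hy'] at this
    exact hl.one_lt.ne' this
  · rw [ho] at h'
    exact h1 (orderOf_eq_one_iff.1 (Nat.eq_one_of_dvd_coprimes hnn hx ((dvd_mul_right _ _).trans h')))

/-- The centraliser of an inverted element of order dividing `q² - q + 1` is commutative. -/
theorem cent_comm {x u : G} (h1 : x ≠ 1) (hx : orderOf x ∣ q ^ 2 - q + 1) (hu : orderOf u = 2)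
    (hux : u * x * u⁻¹ = x⁻¹) {a c : G} (ha : a ∈ centralizer ({x} : Set G))
    (hc : c ∈ centralizer ({x} : Set G)) : a * c = c * a := by
  set C := centralizer ({x} : Set G)
  have huu : u * u = 1 := by rw [← pow_two, ← hu, pow_orderOf_eq_one]
  have hC : Nat.card C ∣ q ^ 2 - q + 1 := h.cent_reg h1 hx
  have hcop : (Nat.card C).Coprime (q * (2 * d) * (q + 1)) :=
    (h.cop.2.coprime_dvd_left hC).coprime_dvd_right ⟨q ^ 2, by ring⟩
  have hodd : Odd (Nat.card C) := Nat.coprime_two_right.1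
    (hcop.coprime_dvd_right ⟨q * d * (q + 1), by ring⟩)
  have hn : ∀ y ∈ C, u * y * u⁻¹ ∈ C := fun y hy => by
    rw [mem_centralizer_singleton_iff] at hy ⊢
    have e : Commute (u * y * u⁻¹) (u * x * u⁻¹) :=
      (show Commute y x from hy).map (MulAut.conj u).toMonoidHom
    rw [hux] at e
    exact (Commute.inv_right_iff.1 e).eq
  have hfix : ∀ y ∈ C, u * y * u⁻¹ = y → y = 1 := fun y hy e =>
    orderOf_eq_one_iff.1 (Nat.eq_one_of_dvd_coprimes hcop (Subgroup.orderOf_dvd_natCard C hy)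
      (h.ord_dvd_cent hu (mul_inv_eq_iff_eq_mul.1 e).symm))
  have hinv : ∀ y ∈ C, u * y * u⁻¹ = y⁻¹ := fun y hy =>
    AllAbelian80.inverts_of_fpf hodd huu hn hfix hy
  refine inv_injective ?_
  rw [← hinv _ (mul_mem ha hc), show u * (a * c) * u⁻¹ = u * a * u⁻¹ * (u * c * u⁻¹) by group,
    hinv a ha, hinv c hc, ← mul_inv_rev]

/-- A subgroup of order `l ^ k`, `l ^ k ∣ n`: commutative, and the centralisers of its elements. -/
theorem exists_part {n n' : ℕ} (hnn : n.Coprime n') (hnm : n * n' = q ^ 2 - q + 1)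
    (hno : ∀ x : G, x ≠ 1 → orderOf x ∣ q ^ 2 - q + 1 → orderOf x ∣ n ∨ orderOf x ∣ n')
    (hinv : ∀ x : G, x ≠ 1 → orderOf x ∣ q ^ 2 - q + 1 →
      ∃ u : G, orderOf u = 2 ∧ u * x * u⁻¹ = x⁻¹)
    {l k : ℕ} (hl : l.Prime) (hlk : l ^ k ∣ n) :
    ∃ S : Subgroup G, Nat.card S = l ^ k ∧ (∀ a ∈ S, ∀ c ∈ S, a * c = c * a) ∧
      ∀ y ∈ S, y ≠ 1 → (Nat.card (centralizer ({y} : Set G)) ∣ n ∧ orderOf y ∣ n) := by
  haveI : Fact l.Prime := ⟨hl⟩
  have hnm' : n ∣ q ^ 2 - q + 1 := hnm ▸ dvd_mul_right n n'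
  have hG : l ^ k ∣ Nat.card G := by
    rw [h.card_eq]; exact (hlk.trans hnm').mul_left _
  obtain ⟨S, hS⟩ := Sylow.exists_subgroup_card_pow_prime l hG
  have hord : ∀ y ∈ S, orderOf y ∣ n := fun y hy =>
    ((hS ▸ Subgroup.orderOf_dvd_natCard S hy : orderOf y ∣ l ^ k)).trans hlk
  refine ⟨S, hS, fun a ha c hc => ?_, fun y hy h1 =>
    ⟨cent_part h hnn hnm hno h1 (hord y hy), hord y hy⟩⟩
  rcases Nat.eq_zero_or_pos k with rfl | hk
  · rw [pow_zero, Subgroup.card_eq_one] at hS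
    rw [hS, mem_bot] at ha hc
    rw [ha, hc]
  haveI : Nontrivial S := Finite.one_lt_card_iff_nontrivial.1 (hS ▸ Nat.one_lt_pow hk.ne' hl.one_lt)
  obtain ⟨⟨⟨z, hz⟩, hzc⟩, hz1⟩ := @exists_ne _ ((IsPGroup.of_card hS).center_nontrivial) 1
  have hzne : z ≠ 1 := fun e => hz1 (Subtype.ext (Subtype.ext e))
  have hmem : ∀ y ∈ S, y ∈ centralizer ({z} : Set G) := fun y hy =>
    mem_centralizer_singleton_iff.2 (congrArg Subtype.val (Subgroup.mem_center_iff.1 hzc ⟨y, hy⟩))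
  obtain ⟨u, hu, hux⟩ := hinv z hzne ((hord z hz).trans hnm')
  exact cent_comm h hzne ((hord z hz).trans hnm') hu hux (hmem a ha) (hmem c hc)

end Cfsg.Agent.Lib.ReeNine68
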