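import Cfsg.Agent.Lib.ReeNine68.Split
import Cfsg.Agent.Lib.ReeNine68.Reg

/-!
# Ree order: no character is small outside the conjugates of a Sylow 3-subgroup

An irreducible character with `(q - 1) ‖χ x‖² < |C(x)|` at the identity and at the elements whose order
does not divide `q³` has degree `(q² - 1)(q + 1 - 3 r)`, congruent to `-6` modulo `q + 1 + 3 r`, and the
commutative subgroups of order dividing `q + 1 + 3 r` do not allow this residue.

Owner: helper68.
-/

set_option autoImplicit false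
set_option linter.style.haveILetI false
set_option linter.unusedSectionVars false

universe u

namespace Cfsg.Agent.Lib.ReeNine68

open Subgroup Cfsg.Agent.Lib.Characters.Basic Cfsg.Agent.Lib.AllAbelian80.Ree
open Cfsg.Agent.Lib.ReeTorus80

theorem intFn_sub {A : Type u} [Group A] [Fintype A] {f g : A → ℂ} (hf : IntFn f) (hg : IntFn g) :
    IntFn (f - g) := fun χ => by
  obtain ⟨a, ha⟩ := hf χ
  obtain ⟨c, hc⟩ := hg χ
  exact ⟨a - c, by rw [Induced.Basic.classInner_sub_left, ha, hc]; push_cast; rfl⟩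

/-- If every value off one is smaller than one, the order divides the value at one. -/
theorem dvd_of_each_lt {A : Type u} [Group A] [Fintype A] (hA : ∀ a c : A, a * c = c * a)
    {f : A → ℂ} (hf : IntFn f) {D : ℤ} (hD : f 1 = D)
    (hlt : ∀ a : A, a ≠ 1 → Complex.normSq (f a) < 1) : (Nat.card A : ℤ) ∣ D := by
  classical
  rcases Finset.eq_empty_or_nonempty (Finset.univ.erase (1 : A)) with he | hne
  · have : Nat.card A = 1 := by
      rw [Nat.card_eq_fintype_card, ← Finset.card_univ,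
        ← Finset.card_erase_add_one (Finset.mem_univ (1 : A)), he, Finset.card_empty]
    rw [this, Nat.cast_one]
    exact one_dvd D
  refine (eq_zero_of_lt hA hf hD ?_).1
  refine lt_of_lt_of_le (Finset.sum_lt_sum_of_nonempty hne
    (g := fun _ => (1 : ℝ)) fun a ha => hlt a (Finset.ne_of_mem_erase ha)) (le_of_eq ?_)
  rw [Finset.sum_const, nsmul_eq_mul, mul_one, Finset.card_erase_of_mem (Finset.mem_univ _),
    Finset.card_univ, ← Nat.card_eq_fintype_card, Nat.cast_sub (Nat.card_pos), Nat.cast_one]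

/-- The residue against a bound for every value off one. -/
theorem residue_le_mul {A : Type u} [Group A] [Fintype A] (hA : ∀ a c : A, a * c = c * a)
    {f : A → ℂ} (hf : IntFn f) {D : ℤ} (hD : f 1 = D) {B : ℝ}
    (hle : ∀ a : A, a ≠ 1 → Complex.normSq (f a) ≤ B) :
    (((D % (Nat.card A : ℤ)) * ((Nat.card A : ℤ) - D % (Nat.card A : ℤ)) : ℤ) : ℝ) ≤
      ((Nat.card A : ℝ) - 1) * B := by
  classical
  refine (residue_le hA hf hD).trans
    ((Finset.sum_le_card_nsmul _ _ B fun a ha => hle a (Finset.ne_of_mem_erase ha)).trans (le_of_eq ?_))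
  rw [nsmul_eq_mul, Finset.card_erase_of_mem (Finset.mem_univ _), Finset.card_univ,
    ← Nat.card_eq_fintype_card, Nat.cast_sub (Nat.card_pos), Nat.cast_one]

/-- A number prime to six that does not divide `35` has a prime power factor of at least eleven. -/
theorem exists_big_prime_power {n : ℕ} (h2 : ¬ 2 ∣ n) (h3 : ¬ 3 ∣ n) (h35 : ¬ n ∣ 35) :
    ∃ l k : ℕ, l.Prime ∧ l ^ k ∣ n ∧ 11 ≤ l ^ k := by
  by_contra hh
  push Not at hh
  refine h35 ((Nat.dvd_iff_prime_pow_dvd_dvd _ _).2 fun l k hl hlk => ?_)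
  rcases Nat.eq_zero_or_pos k with rfl | hk
  · simp
  have hlt := hh l k hl hlk
  have hln : l ∣ n := (dvd_pow_self l hk.ne').trans hlk
  have hl11 : l < 11 := lt_of_le_of_lt (Nat.le_self_pow hk.ne' l) hlt
  have hl57 : l = 5 ∨ l = 7 := by
    have := hl.two_le
    interval_cases l <;> first | omega | exact absurd hl (by decide)
  have hk1 : k = 1 := by
    by_contra hk1
    have : l ^ 2 ≤ l ^ k := Nat.pow_le_pow_right hl.pos (by omega)
    rcases hl57 with rfl | rfl <;> omega
  subst hk1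
  rcases hl57 with rfl | rfl <;> norm_num

variable {G : Type u} [Group G] [Fintype G] {q d r : ℕ} {t s : G} {E U T P N M Y W : Subgroup G}
  (h : Setting G q d t s E U T P N M Y W)

include h

theorem not_dvd_cube {x : G} (h1 : x ≠ 1) (hc : (orderOf x).Coprime q) : ¬ orderOf x ∣ q ^ 3 :=
  fun hd => h1 (orderOf_eq_one_iff.1 (Nat.eq_one_of_dvd_coprimes (hc.pow_right 3) dvd_rfl hd))

theorem coprime_A : (2 * d).Coprime q := by
  rw [h.q_eq, Nat.coprime_self_add_right]
  exact Nat.coprime_one_right _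

theorem coprime_W : (q + 1).Coprime q := by
  rw [Nat.coprime_self_add_left]
  exact Nat.coprime_one_left q

/-- The centraliser of a non-central element of `A` has at most `q - 1` elements. -/
theorem card_centA {a : G} (ha : a ∈ zpowers t ⊔ T) (h1 : a ≠ 1) (ht : a ≠ t) :
    Nat.card (centralizer ({a} : Set G)) ≤ 2 * d := by
  rw [← h.ree.card_tT]
  exact Nat.le_of_dvd Nat.card_pos
    (card_dvd_of_le fun g hg => h.centA ha h1 ht (mem_centralizer_singleton_iff.1 hg))

/-- The centraliser of `t u` has at most `2 q` elements. -/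
theorem card_cent_tU {u : G} (hu : u ∈ U) (h1 : u ≠ 1) :
    Nat.card (centralizer ({t * u} : Set G)) ≤ 2 * q := by
  have htu : Commute t u := (h.ree.comm u (h.ree.UE hu)).symm
  have hcube : (t * u) ^ 3 = t := by
    rw [htu.mul_pow, h.ree.cube u hu, mul_one, pow_succ, pow_two, h.ree.tt, one_mul]
  have hmem : ∀ g ∈ centralizer ({t * u} : Set G), g ∈ U ∨ t * g ∈ U := by
    intro g hg
    rw [mem_centralizer_singleton_iff] at hg
    have hgt : Commute g t := hcube ▸ (show Commute g (t * u) from hg).pow_right 3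
    have hgu : Commute g u := by
      have := hgt.mul_right (show Commute g (t * u) from hg)
      rwa [← mul_assoc, h.ree.tt, one_mul] at this
    rcases h.ree.cent g hgt.eq with he | he
    · exact Or.inl (h.ree.centU u hu h1 g he hgu.eq)
    · exact Or.inr (h.ree.centU u hu h1 _ he (htu.mul_left hgu).eq)
  classical
  refine (Nat.card_le_card_of_injective (β := Bool × ↥U) (fun g : ↥(centralizer ({t * u} : Set G)) =>
    if hg : (g : G) ∈ U then (true, ⟨g, hg⟩) else (false, ⟨t * g, (hmem g g.2).resolve_left hg⟩))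
    (fun a c e => ?_)).trans (le_of_eq ?_)
  · by_cases ha : (a : G) ∈ U <;> by_cases hc : (c : G) ∈ U <;>
      simp only [ha, hc, dite_true, dite_false, Prod.mk.injEq, Subtype.mk.injEq, Bool.false_eq_true,
        Bool.true_eq_false, false_and, true_and] at e
    · exact Subtype.ext e
    · exact Subtype.ext (mul_left_cancel e)
  · rw [Nat.card_prod, h.ree.cardU]
    simp [Nat.card_eq_fintype_card]

/-- The centraliser of an element of `W` with non-trivial square has at most `q + 1` elements. -/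
theorem card_centW {x : G} (hx : x ∈ W) (h2 : x * x ≠ 1) :
    Nat.card (centralizer ({x} : Set G)) ≤ q + 1 := by
  rw [← h.cardW]
  exact Nat.le_of_dvd Nat.card_pos
    (card_dvd_of_le fun g hg => (h.ord_W hx h2).2.2.2 g (mem_centralizer_singleton_iff.1 hg))

/-- A subgroup of order eight, all involutions. -/
theorem exists_eight : ∃ S : Subgroup G, Nat.card S = 8 ∧ (∀ a ∈ S, ∀ c ∈ S, a * c = c * a) ∧
    ∀ x ∈ S, x ≠ 1 → orderOf x = 2 := by
  haveI : Fact (Nat.Prime 2) := ⟨Nat.prime_two⟩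
  have h8 : 2 ^ 3 ∣ Nat.card G := by
    rw [h.card_eq, ← h.cardY]
    exact ⟨q ^ 3 * d * Nat.card Y * (q ^ 2 - q + 1), by ring⟩
  obtain ⟨S, hS⟩ := Sylow.exists_subgroup_card_pow_prime 2 h8
  obtain ⟨Q, hQ⟩ := (IsPGroup.of_card hS).exists_le_sylow
  haveI := h.ree.sylow2 Q
  refine ⟨S, by simpa using hS, fun a ha c hc => setLike_mul_comm (hQ ha) (hQ hc), fun x hx h1 => ?_⟩
  obtain ⟨i, -, hi'⟩ := (Nat.dvd_prime_pow Nat.prime_two).1
    (hS ▸ Subgroup.orderOf_dvd_natCard S hx : orderOf x ∣ 2 ^ 3)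
  rcases i with _ | _ | i
  · exact absurd (orderOf_eq_one_iff.1 (by simpa using hi')) h1
  · simpa using hi'
  · exact absurd (hi' ▸ ⟨2 ^ i, by ring⟩) (h.not_four_dvd x)

set_option maxHeartbeats 1600000 in
/-- No irreducible character satisfies the column bound of a family of `q - 1` conjugates. -/
theorem absurd_of_bound (hr : q = 3 * r ^ 2)
    (hno : ∀ x : G, x ≠ 1 → orderOf x ∣ q ^ 2 - q + 1 →
      orderOf x ∣ q + 1 + 3 * r ∨ orderOf x ∣ q + 1 - 3 * r)
    (χ : Cfsg.IrrCharacter G)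
    (hb : ∀ x : G, (x = 1 ∨ ¬ orderOf x ∣ q ^ 3) →
      2 * (d : ℝ) * Complex.normSq ((χ : G → ℂ) x) + 1 ≤ Nat.card (centralizer ({x} : Set G))) :
    False := by
  classical
  obtain ⟨hlr, hprod, hcop⟩ := torus_arith h hr
  have hr3 := three_le_r h hr
  have hq27 := q_big h hr
  have hq := h.q_eq
  have hd : (0 : ℝ) < 2 * d := by have := h.d_big; positivity
  have hinv := h.exists_inverting hr hno
  -- bounds
  have bound : ∀ {x : G} {n : ℕ}, ¬ orderOf x ∣ q ^ 3 →
      Nat.card (centralizer ({x} : Set G)) ≤ n →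
      2 * (d : ℝ) * Complex.normSq ((χ : G → ℂ) x) + 1 ≤ n := fun {x n} hx hn =>
    (hb x (Or.inr hx)).trans (by exact_mod_cast hn)
  obtain ⟨D, hD⟩ := exists_degree (isCharacter_irr χ)
  have hD0 : D ≠ 0 := fun e =>
    apply_one_ne_zero χ (by rw [hD, e, Nat.cast_zero])
  -- `A`
  obtain ⟨Tv, hTv, hdTv, hdD⟩ : ∃ Tv : ℤ, (χ : G → ℂ) t = Tv ∧ (d : ℤ) ∣ Tv ∧ (d : ℤ) ∣ (D : ℤ) := by
    letI : Fintype ↥T := Fintype.ofFinite _
    have hcT : ∀ a ∈ T, t * a = a * t := fun a ha => (h.ree.comm a (h.ree.TE ha)).symm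
    obtain ⟨fp, fm, Dp, Dm, hp, hm, ep, em, e1, e2, -, hns⟩ :=
      exists_split_values T h.ree.commT h.ree.tt hcT (isCharacter_irr χ)
    have hsmall : ∀ a : G, a ∈ zpowers t ⊔ T → a ≠ 1 → a ≠ t →
        Complex.normSq ((χ : G → ℂ) a) < 1 := fun a ha h1 ht => by
      have hco : (orderOf a).Coprime q :=
        (coprime_A h).coprime_dvd_left (h.ree.card_tT ▸ Subgroup.orderOf_dvd_natCard _ ha)
      have := bound (not_dvd_cube h h1 hco) (card_centA h ha h1 ht)
      push_cast at this
      nlinarith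
    have hboth : ∀ a : ↥T, a ≠ 1 → Complex.normSq (fp a) < 1 ∧ Complex.normSq (fm a) < 1 := by
      intro a ha
      have ha' : (a : G) ≠ 1 := fun e => ha (Subtype.ext e)
      have hat : (a : G) ≠ t := fun e => h.ree.tE (e ▸ h.ree.TE a.2)
      have h1 := hsmall a (mem_sup_right a.2) ha' hat
      have h2 := hsmall (t * a) (mul_mem (mem_sup_left (mem_zpowers t)) (mem_sup_right a.2))
        (fun e => hat (by rw [eq_inv_of_mul_eq_one_right e, h.ree.t_inv]))
        (fun e => ha' (mul_eq_left.1 e))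
      have h3 := hns a
      have h4 := Complex.normSq_nonneg (fp a)
      have h5 := Complex.normSq_nonneg (fm a)
      exact ⟨by linarith, by linarith⟩
    have hA : ∀ a c : ↥T, a * c = c * a := fun a c => Subtype.ext (h.ree.commT a a.2 c c.2)
    have h1 := dvd_of_each_lt hA hp ep fun a ha => (hboth a ha).1
    have h2 := dvd_of_each_lt hA hm em fun a ha => (hboth a ha).2
    rw [h.ree.cardT] at h1 h2
    refine ⟨Dp - Dm, e2, dvd_sub h1 h2, ?_⟩
    have : (D : ℤ) = Dp + Dm := by exact_mod_cast (hD.symm.trans e1 : ((D : ℂ)) = ((Dp + Dm : ℤ) : ℂ))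
    rw [this]
    exact dvd_add h1 h2
  -- `U`: the value at `t`
  have hTv0 : Tv = 0 ∨ Tv = 2 * (d : ℤ) ∨ Tv = -(2 * (d : ℤ)) := by
    have hbt := hb t (Or.inr (not_dvd_cube h h.t_ne (by
      rw [h.ree.ht, Nat.coprime_two_left]; exact Nat.odd_iff.2 (by omega))))
    rw [hTv, Complex.normSq_intCast, h.card_centralizer_t] at hbt
    have hsq : Tv * Tv < (q : ℤ) * ((q : ℤ) + 1) := by
      by_contra hh
      push Not at hh
      have hh' : ((q : ℝ) * ((q : ℝ) + 1)) ≤ (Tv : ℝ) * Tv := by exact_mod_cast hh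
      push_cast at hbt
      nlinarith
    obtain ⟨j, rfl⟩ := hdTv
    have hj : -2 ≤ j ∧ j ≤ 2 := by
      have hqd : (q : ℤ) = 2 * d + 1 := by exact_mod_cast hq
      have hd13 : (13 : ℤ) ≤ d := by omega
      have hj2 : j * j < 9 := by
        by_contra hh
        push Not at hh
        rw [hqd] at hsq
        nlinarith [mul_le_mul_of_nonneg_left hh (mul_self_nonneg (d : ℤ))]
      constructor <;> nlinarith
    letI : Fintype ↥U := Fintype.ofFinite _
    have hcU : ∀ a ∈ U, t * a = a * t := fun a ha => (h.ree.comm a (h.ree.UE ha)).symm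
    obtain ⟨fp, fm, hp, hm, e1, e2⟩ := exists_split U h.ree.commU h.ree.tt hcU (isCharacter_irr χ)
    have he : (fp - fm) 1 = ((d * j : ℤ) : ℂ) := by
      rw [Pi.sub_apply, ← e2 1, Subgroup.coe_one, mul_one, hTv]
    have hres := residue_le_mul (fun a c => Subtype.ext (h.ree.commU a a.2 c c.2))
      (intFn_sub hp hm) he (B := (2 * (q : ℝ) - 1) / (2 * d)) fun a ha => by
        have ha' : (a : G) ≠ 1 := fun e => ha (Subtype.ext e)
        have hnd : ¬ orderOf (t * (a : G)) ∣ q ^ 3 := fun hdv => by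
          have hpow : (t * (a : G)) ^ 3 = t := by
            rw [(show Commute t (a : G) from hcU a a.2).mul_pow, h.ree.cube a a.2, mul_one, pow_succ,
              pow_two, h.ree.tt, one_mul]
          have h2 := (orderOf_pow_dvd (x := t * (a : G)) 3).trans hdv
          rw [hpow, h.ree.ht] at h2
          have := Nat.prime_two.dvd_of_dvd_pow h2
          omega
        have := bound hnd (card_cent_tU h a.2 ha')
        rw [Pi.sub_apply, ← e2 a, le_div_iff₀ hd]
        push_cast at this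
        linarith
    rw [h.ree.cardU] at hres
    have hB : ((q : ℝ) - 1) * ((2 * (q : ℝ) - 1) / (2 * d)) = ((2 * (q : ℤ) - 1 : ℤ) : ℝ) := by
      rw [hq]; push_cast
      rw [show (2 * (d : ℝ) + 1 - 1) = 2 * d by ring, mul_div_cancel₀ _ hd.ne']
    rw [hB, Int.cast_le] at hres
    have hqd : (q : ℤ) = 2 * d + 1 := by exact_mod_cast hq
    have hd13 : (13 : ℤ) ≤ d := by omega
    obtain ⟨hj1, hj2⟩ := hj
    interval_cases j
    · exact Or.inr (Or.inr (by ring))
    · exfalso
      have e : ((d : ℤ) * -1) % (q : ℤ) = d + 1 := by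
        rw [show (d : ℤ) * -1 = ((d : ℤ) + 1) + (q : ℤ) * (-1) by rw [hqd]; ring,
          Int.add_mul_emod_self_left, Int.emod_eq_of_lt (by omega) (by omega)]
      rw [e, hqd] at hres
      nlinarith
    · exact Or.inl (by ring)
    · exfalso
      rw [mul_one, Int.emod_eq_of_lt (by omega) (by omega), hqd] at hres
      nlinarith
    · exact Or.inr (Or.inl (by ring))
  -- `W`
  obtain ⟨hTz, hYD⟩ : Tv = 0 ∧ (Nat.card Y : ℤ) ∣ (D : ℤ) := by
    letI : Fintype ↥Y := Fintype.ofFinite _
    obtain ⟨v, hvW, hv2, hv1⟩ : ∃ v, v ∈ W ∧ v * v = 1 ∧ v ≠ 1 := by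
      by_contra hh
      push Not at hh
      have hsub : Subsingleton {g : W // (g : G) * g = 1} := ⟨fun a c => by
        have ha := hh a.1 a.1.2 a.2
        have hc := hh c.1 c.1.2 c.2
        exact Subtype.ext (Subtype.ext (ha.trans hc.symm))⟩
      have := h.card_sqW
      rw [Nat.card_eq_one_iff_unique.2 ⟨hsub, ⟨⟨1, by simp⟩⟩⟩] at this
      omega
    have hvT : (χ : G → ℂ) v = Tv := by
      obtain ⟨g, hg⟩ := isConj_iff.1 (h.ree.conj v (orderOf_eq_prime (by rw [pow_two]; exact hv2) hv1))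
      rw [← hTv, ← hg, isClassFunction_irr χ]
    have hodd : ∀ y ∈ Y, y ≠ 1 → y * y ≠ 1 := fun y hy h1 e => by
      have h2 : orderOf y ∣ 2 := orderOf_dvd_of_pow_eq_one (by rw [pow_two]; exact e)
      exact h1 (orderOf_eq_one_iff.1 (Nat.eq_one_of_dvd_coprimes
        (Nat.coprime_two_left.2 h.cardY_odd) h2 (Subgroup.orderOf_dvd_natCard Y hy)))
    have hsmall : ∀ x ∈ W, x * x ≠ 1 →
        Complex.normSq ((χ : G → ℂ) x) ≤ (q : ℝ) / (2 * d) := fun x hx h2 => by
      have hx1 : x ≠ 1 := fun e => h2 (by rw [e, one_mul])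
      have := bound (not_dvd_cube h hx1 ((coprime_W h).coprime_dvd_left
        (h.cardW ▸ Subgroup.orderOf_dvd_natCard W hx))) (card_centW h hx h2)
      rw [le_div_iff₀ hd]
      push_cast at this
      linarith
    have hcv : ∀ a ∈ Y, v * a = a * v := fun a ha => h.commW v hvW a (h.YW ha)
    obtain ⟨fp, fm, Dp, Dm, hp, hm, ep, em, e1, e2, hval, hns⟩ := exists_split_values Y
      (fun a ha c hc => h.commW a (h.YW ha) c (h.YW hc)) hv2 hcv (isCharacter_irr χ)
    have hTD : Tv = Dp - Dm := by exact_mod_cast (hvT.symm.trans e2 : ((Tv : ℂ)) = ((Dp - Dm : ℤ) : ℂ))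
    have hDD : (D : ℤ) = Dp + Dm := by exact_mod_cast (hD.symm.trans e1 : ((D : ℂ)) = ((Dp + Dm : ℤ) : ℂ))
    have hvy : ∀ y : ↥Y, y ≠ 1 → Complex.normSq (fp y) + Complex.normSq (fm y) ≤ (q : ℝ) / (2 * d) := by
      intro y hy
      have hy' : (y : G) ≠ 1 := fun e => hy (Subtype.ext e)
      have hsq : v * (y : G) * (v * (y : G)) = (y : G) * y := by
        rw [(show Commute v (y : G) from hcv y y.2).symm.mul_mul_mul_comm, hv2, one_mul]
      have h1 := hsmall y (h.YW y.2) (hodd y y.2 hy')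
      have h2 := hsmall (v * y) (mul_mem hvW (h.YW y.2)) (by rw [hsq]; exact hodd y y.2 hy')
      rw [hns y]
      linarith
    have hA : ∀ a c : ↥Y, a * c = c * a := fun a c =>
      Subtype.ext (h.commW a (h.YW a.2) c (h.YW c.2))
    have hn := h.cardY
    have hn7 : 7 ≤ Nat.card Y := by omega
    have hnR : (7 : ℝ) ≤ (Nat.card Y : ℝ) := by exact_mod_cast hn7
    have hz : Tv = 0 := by
      by_contra hne
      have hres := residue_le_mul hA (intFn_sub hp hm) (D := Tv)
        (by rw [Pi.sub_apply, ep, em, hTD]; push_cast; rfl) (B := (q : ℝ) / (2 * d)) fun y hy => by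
          have hy' : (y : G) ≠ 1 := fun e => hy (Subtype.ext e)
          rw [Pi.sub_apply, ← hval y]
          refine hsmall (v * y) (mul_mem hvW (h.YW y.2)) ?_
          rw [(show Commute v (y : G) from hcv y y.2).symm.mul_mul_mul_comm, hv2, one_mul]
          exact hodd y y.2 hy'
      set n : ℤ := (Nat.card Y : ℤ) with hndef
      have hn4 : (4 : ℤ) * n = (q : ℤ) + 1 := by rw [hndef]; exact_mod_cast hn
      have hqd : (q : ℤ) = 2 * d + 1 := by exact_mod_cast hq
      have hρ : (Tv % n) * (n - Tv % n) = 2 * (n - 2) := by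
        rcases hTv0 with e | e | e
        · exact absurd e hne
        · have : Tv % n = n - 2 := by
            rw [e, show 2 * (d : ℤ) = (n - 2) + n * 3 by omega, Int.add_mul_emod_self_left,
              Int.emod_eq_of_lt (by omega) (by omega)]
          rw [this]; ring
        · have : Tv % n = 2 := by
            rw [e, show -(2 * (d : ℤ)) = 2 + n * (-4) by omega, Int.add_mul_emod_self_left,
              Int.emod_eq_of_lt (by omega) (by omega)]
          rw [this]
      rw [hρ] at hres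
      push_cast [hndef] at hres
      have hq' : (q : ℝ) = 2 * d + 1 := by exact_mod_cast hq
      have hd13 : (13 : ℝ) ≤ d := by exact_mod_cast (show 13 ≤ d by omega)
      have hkey : (q : ℝ) / (2 * d) ≤ 27 / 26 := by
        rw [div_le_div_iff₀ hd (by norm_num)]; linarith
      nlinarith
    refine ⟨hz, ?_⟩
    have heq : Dp = Dm := by omega
    have hkey : (q : ℝ) / (2 * d) < 2 := by
      rw [div_lt_iff₀ hd]
      have hq' : (q : ℝ) = 2 * d + 1 := by exact_mod_cast hq
      have : (2 : ℝ) ≤ d := by exact_mod_cast h.d_big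
      linarith
    have hsum : (∑ y ∈ Finset.univ.erase (1 : ↥Y), Complex.normSq (fp y)) +
        (∑ y ∈ Finset.univ.erase (1 : ↥Y), Complex.normSq (fm y)) < 2 * ((Nat.card Y : ℝ) - 1) := by
      rw [← Finset.sum_add_distrib]
      refine lt_of_le_of_lt (Finset.sum_le_card_nsmul _ _ _ fun y hy => hvy y (Finset.ne_of_mem_erase hy)) ?_
      rw [nsmul_eq_mul, Finset.card_erase_of_mem (Finset.mem_univ _), Finset.card_univ,
        ← Nat.card_eq_fintype_card, Nat.cast_sub (Nat.card_pos), Nat.cast_one]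
      refine lt_of_lt_of_eq (mul_lt_mul_of_pos_left hkey ?_) (mul_comm _ _)
      linarith
    rw [hDD, heq]
    rcases le_or_gt ((Nat.card Y : ℝ) - 1) (∑ y ∈ Finset.univ.erase (1 : ↥Y), Complex.normSq (fp y)) with hle | hlt
    · have := (eq_zero_of_lt hA hm em (by linarith)).1
      exact dvd_add this this
    · have := (eq_zero_of_lt hA hp ep hlt).1
      rw [heq] at this
      exact dvd_add this this
  subst hTz
  -- the Sylow 2-subgroup
  have h8D : (8 : ℤ) ∣ (D : ℤ) := by
    obtain ⟨S, hS, hSc, hS2⟩ := exists_eight h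
    letI : Fintype ↥S := Fintype.ofFinite _
    have := dvd_of_each_lt (fun a c => Subtype.ext (hSc a a.2 c c.2))
      (intFn_of_character (isCharacter_comp S.subtype (isCharacter_irr χ))) (D := (D : ℤ))
      (by simp [hD]) fun a ha => by
        obtain ⟨g, hg⟩ := isConj_iff.1 (h.ree.conj a (hS2 a a.2 fun e => ha (Subtype.ext e)))
        rw [Function.comp_apply, Subgroup.coe_subtype, ← hg, isClassFunction_irr χ, hTv, Int.cast_zero,
          map_zero]
        exact zero_lt_one
    rwa [hS] at this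
  -- `q + 1 - 3 r`
  have hmmD : q + 1 - 3 * r ∣ D := by
    refine (Nat.dvd_iff_prime_pow_dvd_dvd _ _).2 fun l k hl hlk => ?_
    obtain ⟨S, hS, hSc, hSy⟩ := exists_part h hcop.symm (by rw [mul_comm]; exact hprod)
      (fun x a c => (hno x a c).symm) hinv hl hlk
    letI : Fintype ↥S := Fintype.ofFinite _
    have := dvd_of_each_lt (fun a c => Subtype.ext (hSc a a.2 c c.2))
      (intFn_of_character (isCharacter_comp S.subtype (isCharacter_irr χ))) (D := (D : ℤ))
      (by simp [hD]) fun a ha => by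
        have ha' : (a : G) ≠ 1 := fun e => ha (Subtype.ext e)
        obtain ⟨hC, ho⟩ := hSy a a.2 ha'
        have hnd : ¬ orderOf (a : G) ∣ q ^ 3 := not_dvd_cube h ha' (by
          refine ((h.cop.2.coprime_dvd_left (ho.trans (hprod ▸ dvd_mul_left _ _))).coprime_dvd_right ?_)
          exact ⟨q ^ 2 * (2 * d) * (q + 1), by ring⟩)
        have hb' := bound hnd ((Nat.le_of_dvd (by omega) hC).trans (show q + 1 - 3 * r ≤ 2 * d by omega))
        push_cast at hb'
        simp only [Function.comp_apply, Subgroup.coe_subtype]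
        nlinarith
    rw [hS] at this
    exact_mod_cast this
  -- the degree
  have hdD' : d ∣ D := by exact_mod_cast hdD
  have hYD' : Nat.card Y ∣ D := by exact_mod_cast hYD
  have h8D' : 8 ∣ D := by exact_mod_cast h8D
  have hm2 : (q + 1 - 3 * r).Coprime (q ^ 3 * (2 * d) * (q + 1)) :=
    h.cop.2.coprime_dvd_left (hprod ▸ dvd_mul_left _ _)
  obtain ⟨K, hK⟩ : 8 * d * Nat.card Y * (q + 1 - 3 * r) ∣ D := by
    have hd2 : Nat.Coprime 8 d := (Nat.coprime_two_left.2 (Nat.odd_iff.2 h.ree.d_odd)).pow_left 3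
    have hY2 : Nat.Coprime 8 (Nat.card Y) := (Nat.coprime_two_left.2 h.cardY_odd).pow_left 3
    have hdY : Nat.Coprime d (Nat.card Y) :=
      h.cop.1.coprime_dvd_right (h.cardY ▸ dvd_mul_left _ 4)
    refine Nat.Coprime.mul_dvd_of_dvd_of_dvd ?_ ((hY2.mul_left hdY).mul_dvd_of_dvd_of_dvd
      (hd2.mul_dvd_of_dvd_of_dvd h8D' hdD') hYD') hmmD
    refine Nat.Coprime.symm (Nat.Coprime.mul_right (Nat.Coprime.mul_right ?_ ?_) ?_)
    · exact (hm2.coprime_dvd_right (show 2 ∣ q ^ 3 * (2 * d) * (q + 1) from ⟨q ^ 3 * d * (q + 1), by ring⟩)).pow_right 3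
    · exact hm2.coprime_dvd_right ⟨q ^ 3 * 2 * (q + 1), by ring⟩
    · exact hm2.coprime_dvd_right (h.cardY ▸ ⟨q ^ 3 * (2 * d) * 4, by ring⟩)
  rw [show 8 * d * Nat.card Y * (q + 1 - 3 * r) = 2 * d * (4 * Nat.card Y) * (q + 1 - 3 * r) by ring,
    h.cardY] at hK
  have hK1 : K = 1 := by
    have hb1 := hb 1 (Or.inl rfl)
    rw [hD, show centralizer ({(1 : G)} : Set G) = ⊤ from eq_top_iff.2 fun g _ =>
      mem_centralizer_singleton_iff.2 (by rw [mul_one, one_mul]), Subgroup.card_top, h.card_eq,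
      ← hprod, hK, Complex.normSq_natCast] at hb1
    have hbN : 2 * d * ((2 * d * (q + 1) * (q + 1 - 3 * r) * K) * (2 * d * (q + 1) * (q + 1 - 3 * r) * K)) <
        q ^ 3 * (2 * d) * (q + 1) * ((q + 1 + 3 * r) * (q + 1 - 3 * r)) := by
      have : ((2 * d * ((2 * d * (q + 1) * (q + 1 - 3 * r) * K) * (2 * d * (q + 1) * (q + 1 - 3 * r) * K)) : ℕ) : ℝ) <
          ((q ^ 3 * (2 * d) * (q + 1) * ((q + 1 + 3 * r) * (q + 1 - 3 * r)) : ℕ) : ℝ) := by
        push_cast at hb1 ⊢
        linarith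
      exact_mod_cast this
    set mm := q + 1 - 3 * r with hmm
    have hlt : (2 * d) * (2 * d) * (q + 1) * mm * (K * K) < q ^ 3 * (q + 1 + 3 * r) :=
      Nat.lt_of_mul_lt_mul_left (a := 2 * d * (q + 1) * mm) (lt_of_eq_of_lt (by ring)
        (lt_of_lt_of_eq hbN (by ring)))
    rcases Nat.lt_or_ge K 2 with hK2 | hK2
    · rcases Nat.eq_zero_or_pos K with rfl | hpos
      · exact absurd (hK.trans (mul_zero _)) hD0
      · omega
    exfalso
    have h4 : 4 ≤ K * K := Nat.mul_le_mul hK2 hK2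
    have hmp : q + 1 + 3 * r ≤ 2 * mm := by
      have : 3 * r * 3 ≤ q + 1 := by nlinarith
      omega
    have hcub : q ^ 3 ≤ 2 * ((2 * d) * (2 * d) * (q + 1)) := by
      rw [hq]
      nlinarith [Nat.mul_le_mul (show 13 ≤ d by omega) (Nat.le_refl (d * d))]
    have := Nat.mul_le_mul hcub hmp
    have := Nat.mul_le_mul_left ((2 * d) * (2 * d) * (q + 1) * mm) h4
    linarith
  subst hK1
  rw [mul_one] at hK
  -- `q + 1 + 3 r`
  obtain ⟨l, k, hl, hlk, h11⟩ := exists_big_prime_power (n := q + 1 + 3 * r)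
    (fun e => by
      have := (h.cop.2.coprime_dvd_left (e.trans (hprod ▸ dvd_mul_right _ _))).coprime_dvd_right
        (show 2 ∣ q ^ 3 * (2 * d) * (q + 1) from ⟨q ^ 3 * d * (q + 1), by ring⟩)
      norm_num at this)
    (fun e => by
      obtain ⟨a, ha⟩ := e
      obtain ⟨c, hc⟩ := h.three_dvd
      omega)
    (fun e => by have := Nat.le_of_dvd (by norm_num) e; omega)
  obtain ⟨S, hS, hSc, hSy⟩ := exists_part h hcop hprod hno hinv hl hlk
  letI : Fintype ↥S := Fintype.ofFinite _
  have hres := residue_le_mul (fun a c => Subtype.ext (hSc a a.2 c c.2))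
    (intFn_of_character (isCharacter_comp S.subtype (isCharacter_irr χ))) (D := (D : ℤ))
    (by simp [hD]) (B := 2) fun a ha => by
      have ha' : (a : G) ≠ 1 := fun e => ha (Subtype.ext e)
      obtain ⟨hC, ho⟩ := hSy a a.2 ha'
      have hnd : ¬ orderOf (a : G) ∣ q ^ 3 := not_dvd_cube h ha' (by
        refine ((h.cop.2.coprime_dvd_left (ho.trans (hprod ▸ dvd_mul_right _ _))).coprime_dvd_right ?_)
        exact ⟨q ^ 2 * (2 * d) * (q + 1), by ring⟩)
      have h3r : 3 * r + 2 ≤ q := by nlinarith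
      have hb' := bound hnd ((Nat.le_of_dvd (by omega) hC).trans
        (show q + 1 + 3 * r ≤ 4 * d + 1 by omega))
      push_cast at hb'
      simp only [Function.comp_apply, Subgroup.coe_subtype]
      nlinarith
  rw [hS] at hres
  set n : ℤ := ((l ^ k : ℕ) : ℤ) with hn
  have hn11 : 11 ≤ n := by rw [hn]; exact_mod_cast h11
  have hρ : (D : ℤ) % n = n - 6 := by
    obtain ⟨c, hc⟩ : n ∣ ((D : ℤ) + 6) := by
      refine (Int.natCast_dvd_natCast.2 hlk).trans ⟨((q : ℤ) + 1 - 3 * r) ^ 2 + 3 * (r : ℤ) ^ 2 - 6 * r + 4, ?_⟩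
      have hrZ : (q : ℤ) = 3 * (r : ℤ) ^ 2 := by exact_mod_cast hr
      have hqZ : (2 : ℤ) * d = (q : ℤ) - 1 := by omega
      rw [hK]
      push_cast [Nat.cast_sub hlr]
      rw [hqZ, hrZ]
      ring
    rw [show (D : ℤ) = (n - 6) + n * (c - 1) by linear_combination hc,
      Int.add_mul_emod_self_left, Int.emod_eq_of_lt (by omega) (by omega)]
  rw [hρ] at hres
  have hnR : (n : ℝ) = ((l ^ k : ℕ) : ℝ) := by rw [hn]; simp
  rw [← hnR] at hres
  have h11R : (11 : ℝ) ≤ (n : ℝ) := by exact_mod_cast hn11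
  push_cast at hres
  nlinarith

end Cfsg.Agent.Lib.ReeNine68
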