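import Mathlib.Algebra.Module.Basic
import Mathlib.Algebra.Ring.Subring.Basic
import Mathlib.RingTheory.IntegralDomain
import Mathlib.FieldTheory.Finite.GaloisField

/-!
# A field from a transitive free commutative group of automorphisms

Owner: helper68.
-/

set_option autoImplicit false
set_option linter.style.haveILetI false
set_option linter.unusedSectionVars false

universe u v

namespace Cfsg.Agent.Lib.ReeNine68

variable {V : Type u} [AddCommGroup V] [Finite V] {A : Type v} [Group A] [Finite A]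

/-- A commutative group acting freely on the non-zero elements, one fewer in number, is the unit group of
a field structure. -/
theorem exists_field (hA : ∀ a c : A, a * c = c * a) (ρ : A →* AddMonoid.End V)
    (hfree : ∀ a v, v ≠ 0 → ρ a v = v → a = 1) (hcard : Nat.card A + 1 = Nat.card V) :
    ∃ (F : Type u) (_ : Field F) (_ : Fintype F) (e : F ≃+ V) (φ : A ≃* Fˣ),
      ∀ a x, e ((φ a : F) * x) = ρ a (e x) := by
  classical
  haveI : Nontrivial V := Finite.one_lt_card_iff_nontrivial.1 (by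
    rw [← hcard]; have := Nat.card_pos (α := A); omega)
  obtain ⟨e₀, he₀⟩ := exists_ne (0 : V)
  have hinj : ∀ a c, ρ a e₀ = ρ c e₀ → a = c := fun a c e => by
    have : ρ (c⁻¹ * a) e₀ = e₀ := by
      rw [map_mul]
      show ρ c⁻¹ (ρ a e₀) = e₀
      rw [e]
      change (ρ c⁻¹ * ρ c) e₀ = e₀
      rw [← map_mul, inv_mul_cancel, map_one]
      rfl
    exact (inv_mul_eq_one.1 (hfree _ _ he₀ this)).symm
  have hne : ∀ a, ρ a e₀ ≠ 0 := fun a e => he₀ (by
    have : (ρ a⁻¹ * ρ a) e₀ = e₀ := by rw [← map_mul, inv_mul_cancel, map_one]; rfl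
    rw [← this]
    show ρ a⁻¹ (ρ a e₀) = 0
    rw [e, map_zero])
  have hsurj : ∀ v, v ≠ 0 → ∃ a, ρ a e₀ = v := by
    let g : A → {v : V // v ≠ 0} := fun a => ⟨ρ a e₀, hne a⟩
    have hg : Function.Bijective g := (Nat.bijective_iff_injective_and_card g).2
      ⟨fun a c e => hinj a c (congrArg Subtype.val e), by
        haveI := Fintype.ofFinite V
        rw [Nat.card_eq_fintype_card (α := {v : V // v ≠ 0}), Fintype.card_subtype_compl,
          Fintype.card_subtype_eq, ← Nat.card_eq_fintype_card, ← hcard, Nat.add_sub_cancel]⟩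
    exact fun v hv => (hg.2 ⟨v, hv⟩).imp fun a e => congrArg Subtype.val e
  let K : Subring (AddMonoid.End V) := Subring.centralizer (Set.range ρ)
  have hmem : ∀ φ : AddMonoid.End V, φ ∈ K ↔ ∀ a v, φ (ρ a v) = ρ a (φ v) := fun φ => by
    simp only [K, Subring.mem_centralizer_iff, Set.forall_mem_range]
    exact ⟨fun h a v => (DFunLike.congr_fun (h a) v).symm, fun h a => DFunLike.ext _ _ fun v => (h a v).symm⟩
  have hρK : ∀ a, ρ a ∈ K := fun a => (hmem _).2 fun c v => by
    change (ρ a * ρ c) v = (ρ c * ρ a) v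
    rw [← map_mul, ← map_mul, hA]
  have hext : ∀ φ ψ : K, φ.1 e₀ = ψ.1 e₀ → φ = ψ := fun φ ψ e => Subtype.ext (DFunLike.ext _ _ fun v => by
    rcases eq_or_ne v 0 with rfl | hv
    · rw [map_zero, map_zero]
    · obtain ⟨a, rfl⟩ := hsurj v hv
      rw [(hmem _).1 φ.2, (hmem _).1 ψ.2, e])
  have hcases : ∀ φ : K, φ = 0 ∨ ∃ a, φ = ⟨ρ a, hρK a⟩ := fun φ => by
    rcases eq_or_ne (φ.1 e₀) 0 with e | e
    · exact Or.inl (hext φ 0 e)
    · obtain ⟨a, ha⟩ := hsurj _ e
      exact Or.inr ⟨a, hext φ ⟨ρ a, hρK a⟩ ha.symm⟩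
  have hfield : IsField K := by
    refine ⟨⟨0, 1, fun e => he₀ (DFunLike.congr_fun (congrArg Subtype.val e) e₀).symm⟩, fun φ ψ => ?_, fun {φ} hφ => ?_⟩
    · rcases hcases φ with rfl | ⟨a, rfl⟩
      · rw [zero_mul, mul_zero]
      rcases hcases ψ with rfl | ⟨c, rfl⟩
      · rw [zero_mul, mul_zero]
      refine Subtype.ext ?_
      show ρ a * ρ c = ρ c * ρ a
      rw [← map_mul, ← map_mul, hA]
    · rcases hcases φ with rfl | ⟨a, rfl⟩
      · exact absurd rfl hφ
      · exact ⟨⟨ρ a⁻¹, hρK _⟩, Subtype.ext (by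
          show ρ a * ρ a⁻¹ = 1
          rw [← map_mul, mul_inv_cancel, map_one])⟩
  letI : Field K := hfield.toField
  let ev : K →+ V := AddMonoidHom.mk' (fun φ => φ.1 e₀) fun φ ψ => rfl
  have hev : Function.Bijective ev := ⟨fun φ ψ e => hext φ ψ e, fun v => by
    rcases eq_or_ne v 0 with rfl | hv
    · exact ⟨0, rfl⟩
    · obtain ⟨a, rfl⟩ := hsurj v hv; exact ⟨⟨ρ a, hρK a⟩, rfl⟩⟩
  haveI : Finite K := Finite.of_injective ev hev.1
  letI : Fintype K := Fintype.ofFinite K
  let φ₀ : A →* K := { toFun := fun a => ⟨ρ a, hρK a⟩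
                       map_one' := Subtype.ext (map_one ρ)
                       map_mul' := fun a c => Subtype.ext (map_mul ρ a c) }
  have hbij : Function.Bijective φ₀.toHomUnits := by
    refine ⟨fun a c e => hinj a c ?_, fun u => ?_⟩
    · exact DFunLike.congr_fun (congrArg (fun z : Kˣ => (z : K).1) e) e₀
    · rcases hcases (u : K) with e | ⟨a, e⟩
      · exact absurd e u.ne_zero
      · exact ⟨a, Units.ext e.symm⟩
  refine ⟨K, inferInstance, inferInstance, AddEquiv.ofBijective ev hev,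
    MulEquiv.ofBijective φ₀.toHomUnits hbij, fun a x => rfl⟩

/-- Two such structures on groups of the same order: the second over the first field. -/
theorem exists_equiv_over {W : Type u} [AddCommGroup W] [Finite W] {F : Type u} [Field F] [Fintype F]
    (hA : ∀ a c : A, a * c = c * a) (ρ : A →* AddMonoid.End W)
    (hfree : ∀ a v, v ≠ 0 → ρ a v = v → a = 1) (hcard : Nat.card A + 1 = Nat.card W)
    (hF : Fintype.card F = Nat.card W) :
    ∃ (e : F ≃+ W) (φ : A ≃* Fˣ), ∀ a x, e ((φ a : F) * x) = ρ a (e x) := by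
  obtain ⟨F', _, _, e, φ, h⟩ := exists_field hA ρ hfree hcard
  let ψ : F ≃+* F' := FiniteField.ringEquivOfCardEq
    (by rw [hF, ← Nat.card_eq_fintype_card, Nat.card_congr e.toEquiv])
  refine ⟨ψ.toAddEquiv.trans e, φ.trans (Units.mapEquiv ψ.toMulEquiv).symm, fun a x => ?_⟩
  simp only [AddEquiv.trans_apply, RingEquiv.toAddEquiv_eq_coe, RingEquiv.coe_toAddEquiv, map_mul]
  rw [← h]
  congr 2
  show ψ (((Units.mapEquiv ψ.toMulEquiv).symm (φ a) : Fˣ) : F) = _
  simp

end Cfsg.Agent.Lib.ReeNine68
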