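import Cfsg.Agent.Lib.ReeNine68.Layers
import Cfsg.Agent.Lib.ReeNine68.Alt
import Cfsg.Agent.Lib.ReeNine68.FieldOfFree

/-!
# Ree order: a Sylow 3-subgroup has exponent above three

Owner: helper68.
-/

set_option autoImplicit false
set_option linter.style.haveILetI false
set_option linter.unusedSectionVars false

universe u

namespace Cfsg.Agent.Lib.ReeNine68

open Subgroup Cfsg.Agent.Lib.AllAbelian80.Ree
open Cfsg.Agent.Lib.ReeTorus80
open scoped commutatorElement

/-- In a group of exponent three an element commutes with its conjugates, so `[[x, y], y] = 1`. -/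
theorem engel {G : Type*} [Group G] {P : Subgroup G} (hP : ∀ x ∈ P, x ^ 3 = 1) {x y : G} (hx : x ∈ P)
    (hy : y ∈ P) : ⁅⁅x, y⁆, y⁆ = 1 := by
  have e1 : x * y * (x * y) * (x * y) = 1 := by
    have := hP _ (mul_mem hx hy)
    rwa [pow_succ, pow_two] at this
  have e2 : x * x * y * (x * x * y) * (x * x * y) = 1 := by
    have := hP _ (mul_mem (mul_mem hx hx) hy)
    rwa [pow_succ, pow_two] at this
  have ex : x * x * x = 1 := by
    have := hP _ hx
    rwa [pow_succ, pow_two] at this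
  have ey : y * y * y = 1 := by
    have := hP _ hy
    rwa [pow_succ, pow_two] at this
  have hxi : x⁻¹ = x * x := inv_eq_of_mul_eq_one_right (by rw [← mul_assoc]; exact ex)
  have r1 : y * x * y = x⁻¹ * y⁻¹ * x⁻¹ := by
    have : y * x * y = x⁻¹ * (x * y * (x * y) * (x * y)) * y⁻¹ * x⁻¹ := by group
    rw [this, e1]; group
  have r2 : y * (x * x) * y = (x * x)⁻¹ * y⁻¹ * (x * x)⁻¹ := by
    have : y * (x * x) * y = (x * x)⁻¹ * (x * x * y * (x * x * y) * (x * x * y)) * y⁻¹ * (x * x)⁻¹ := by group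
    rw [this, e2]; group
  have hc : Commute (x * y * x⁻¹) y := by
    have a1 : x * y * x⁻¹ * y = x⁻¹ * y⁻¹ * x := by
      calc x * y * x⁻¹ * y = x * (y * (x * x) * y) := by rw [hxi]; group
        _ = _ := by
          rw [r2, show (x * x)⁻¹ = x from inv_eq_of_mul_eq_one_right ex, hxi]; group
    have a2 : y * (x * y * x⁻¹) = x⁻¹ * y⁻¹ * x := by
      calc y * (x * y * x⁻¹) = (y * x * y) * x⁻¹ := by group
        _ = x⁻¹ * y⁻¹ * (x⁻¹ * x⁻¹) := by rw [r1]; group
        _ = _ := by rw [show x⁻¹ * x⁻¹ = x by rw [← mul_inv_rev]; exact inv_eq_of_mul_eq_one_right ex]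
    exact a1.trans a2.symm
  exact commutatorElement_eq_one_iff_mul_comm.2
    (((hc.mul_left ((Commute.refl y).inv_left))).eq)

variable {G : Type u} [Group G] [Fintype G] {q d : ℕ} {t s : G} {E U T P N M Y W : Subgroup G}
  {h : Setting G q d t s E U T P N M Y W} {D K : Subgroup G} (L : Layers h D K)

include L

set_option maxHeartbeats 1600000 in
/-- Exponent three is impossible. -/
theorem Layers.exists_nine : ∃ x ∈ P, x ^ 3 ≠ 1 := by
  classical
  by_contra hexp
  push Not at hexp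
  haveI : Fact (Nat.Prime 3) := ⟨Nat.prime_three⟩
  obtain ⟨f, hf⟩ := h.ree.pow3
  have hq := h.q_eq
  have hd := h.d_big
  have hf2 : 2 ≤ f := by
    rcases f with _ | _ | f
    · rw [pow_zero] at hf; omega
    · rw [pow_one] at hf; omega
    · omega
  haveI : NeZero f := ⟨by omega⟩
  have hodd : Odd (Nat.card ↥P) := by
    rw [h.bn.cardP]
    exact (Nat.odd_iff.2 (by omega)).pow
  set A : Subgroup G := zpowers t ⊔ T with hA
  have hAN : A ≤ N := h.A_le_N
  have hAc : ∀ a c : ↥A, a * c = c * a := fun a c => Subtype.ext (h.A_comm a.2 c.2)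
  have hcA : Nat.card ↥A + 1 = q := by rw [h.ree.card_tT]; omega
  -- the two quotients
  haveI : (D.subgroupOf P).Normal := ⟨fun n hn g => mem_subgroupOf.2
    (L.normD g (h.P_le_N g.2) n (mem_subgroupOf.1 hn))⟩
  let Q := ↥P ⧸ D.subgroupOf P
  let π : ↥P →* Q := QuotientGroup.mk' _
  have hπ : ∀ p : ↥P, π p = 1 ↔ (p : G) ∈ D := fun p => by
    rw [QuotientGroup.mk'_apply, QuotientGroup.eq_one_iff, mem_subgroupOf]
  have hQ : ∀ x y : Q, x * y = y * x := fun x y => by
    obtain ⟨a, rfl⟩ := QuotientGroup.mk'_surjective _ x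
    obtain ⟨b, rfl⟩ := QuotientGroup.mk'_surjective _ y
    refine commutatorElement_eq_one_iff_mul_comm.1 ?_
    change ⁅π a, π b⁆ = 1
    rw [← map_commutatorElement, hπ, L.defD]
    exact commutator_mem_commutator a.2 b.2
  letI : CommGroup Q := { (inferInstance : Group Q) with mul_comm := hQ }
  have hcQ : Nat.card Q = q := by
    have h1 := (D.subgroupOf P).card_mul_index
    rw [Nat.card_congr (subgroupOfEquivOfLe L.DP).toEquiv, L.cardD, h.bn.cardP,
      Subgroup.index_eq_card] at h1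
    exact Nat.eq_of_mul_eq_mul_left (pow_pos h.ree.q_pos 2) (h1.trans (by ring))
  have hlift : ∀ v : Q, ∃ p : ↥P, π p = v := QuotientGroup.mk'_surjective _
  choose rep hrep using hlift
  let cj : ↥A → ↥P → ↥P := fun a p => ⟨a * p * (a : G)⁻¹, h.bn.norm a (hAN a.2) p p.2⟩
  have hcjD : ∀ (a : ↥A) (p : ↥P), π p = 1 → π (cj a p) = 1 := fun a p hp =>
    (hπ _).2 (L.normD a (hAN a.2) _ ((hπ p).1 hp))
  have hcj_mul : ∀ a p p', cj a (p * p') = cj a p * cj a p' := fun a p p' => Subtype.ext (by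
    simp only [cj, Subgroup.coe_mul]; group)
  have hcjπ : ∀ a p p', π p = π p' → π (cj a p) = π (cj a p') := fun a p p' e => by
    have hone : π (p⁻¹ * p') = 1 := by rw [map_mul, map_inv, e, inv_mul_cancel]
    rw [show p' = p * (p⁻¹ * p') by group, hcj_mul, map_mul, hcjD a _ hone, mul_one]
  let ρ₁ : ↥A →* AddMonoid.End (Additive Q) :=
    { toFun := fun a => AddMonoidHom.mk' (fun v => Additive.ofMul (π (cj a (rep (Additive.toMul v)))))
        fun v w => congrArg Additive.ofMul
          (show π (cj a (rep (Additive.toMul v * Additive.toMul w))) =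
              π (cj a (rep (Additive.toMul v))) * π (cj a (rep (Additive.toMul w))) by
            rw [← map_mul π, ← hcj_mul]
            exact hcjπ a _ _ (by rw [map_mul, hrep, hrep, hrep]))
      map_one' := DFunLike.ext _ _ fun v => by
        show Additive.ofMul (π (cj 1 (rep (Additive.toMul v)))) = v
        rw [show cj 1 (rep (Additive.toMul v)) = rep (Additive.toMul v) from Subtype.ext (by simp [cj]), hrep]
        rfl
      map_mul' := fun a b => DFunLike.ext _ _ fun v => by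
        show Additive.ofMul (π (cj (a * b) (rep (Additive.toMul v)))) =
          Additive.ofMul (π (cj a (rep (π (cj b (rep (Additive.toMul v)))))))
        refine congrArg Additive.ofMul (Eq.trans ?_ (hcjπ a _ _ (hrep _)).symm)
        exact congrArg π (Subtype.ext (by simp only [cj, Subgroup.coe_mul]; group)) }
  have hfree₁ : ∀ a v, v ≠ 0 → ρ₁ a v = v → a = 1 := by
    intro a v hv e
    set p := rep (Additive.toMul v)
    have hpD : (p : G) ∉ D := fun hp => hv (by
      have := (hπ p).2 hp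
      rw [hrep] at this
      exact this)
    have e' : π (cj a p) = π p := (congrArg Additive.toMul e).trans (hrep _).symm
    have hmem : (a : G) * p * (a : G)⁻¹ * (p : G)⁻¹ ∈ D := by
      have := (hπ (cj a p * p⁻¹)).1 (by rw [map_mul, map_inv, e', mul_inv_cancel])
      simpa [cj] using this
    by_contra ha
    by_cases hat : (a : G) = t
    · rw [hat] at hmem
      have hi := L.inverts p p.2
      have hp2 : (p : G) * p ∈ D := by
        have := mul_mem (inv_mem hmem) hi
        rwa [show (t * (p : G) * t⁻¹ * (p : G)⁻¹)⁻¹ * (t * p * t⁻¹ * p) = (p : G) * p by group] at this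
      apply hpD
      have h4 : (p : G) * p * (p * p) = p := by
        rw [show (p : G) * p * (p * p) = (p : G) ^ 3 * p by simp only [pow_succ, pow_zero, one_mul, mul_assoc],
          hexp p p.2, one_mul]
      have := mul_mem hp2 hp2
      rwa [h4] at this
    · exact hpD (mem_of_fixed_coset h L.DP a.2 (fun e' => ha (Subtype.ext e')) hat
        (fun x hx => L.normD a (hAN a.2) x hx) p.2 hmem)
  obtain ⟨F, _, _, e₁, φ₁, he₁⟩ := exists_field hAc ρ₁ hfree₁ (by rw [hcA]; exact hcQ.symm)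
  have hcF : Fintype.card F = q := by
    rw [← Nat.card_eq_fintype_card, Nat.card_congr e₁.toEquiv]; exact hcQ
  have hFf : Fintype.card F = 3 ^ f := hcF.trans hf
  haveI : CharP F 3 := by
    obtain ⟨p, hp⟩ := CharP.exists F
    haveI := hp
    obtain ⟨n, hpp, hn⟩ := FiniteField.card F p
    rw [hFf] at hn
    have h3 : p ∣ 3 ^ f := hn ▸ dvd_pow_self p n.ne_zero
    have := (Nat.prime_dvd_prime_iff_eq hpp Nat.prime_three).1 (hpp.dvd_of_dvd_pow h3)
    exact this ▸ hp
  -- the field on `K`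
  letI : CommGroup ↥K := { (inferInstance : Group ↥K) with
    mul_comm := fun a b => Subtype.ext (L.central a a.2 b (L.DP (L.KD b.2))) }
  let ρ₃ : ↥A →* AddMonoid.End (Additive ↥K) :=
    { toFun := fun a => AddMonoidHom.mk' (fun v => Additive.ofMul
          (⟨(a : G) * (Additive.toMul v : ↥K) * (a : G)⁻¹,
            L.normK a (hAN a.2) _ (Additive.toMul v).2⟩ : ↥K))
        fun v w => congrArg Additive.ofMul (Subtype.ext (by
          show (a : G) * ((Additive.toMul v : ↥K) * (Additive.toMul w : ↥K) : ↥K) * (a : G)⁻¹ =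
            ((a : G) * (Additive.toMul v : ↥K) * (a : G)⁻¹) * ((a : G) * (Additive.toMul w : ↥K) * (a : G)⁻¹)
          simp only [Subgroup.coe_mul]
          group))
      map_one' := AddMonoidHom.ext fun v => congrArg Additive.ofMul (Subtype.ext (by
        show (1 : G) * (Additive.toMul v : ↥K) * (1 : G)⁻¹ = _
        rw [inv_one, mul_one, one_mul]
        rfl))
      map_mul' := fun a b => AddMonoidHom.ext fun v => congrArg Additive.ofMul (Subtype.ext (by
        show ((a : G) * b) * (Additive.toMul v : ↥K) * ((a : G) * b)⁻¹ =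
          (a : G) * ((b : G) * (Additive.toMul v : ↥K) * (b : G)⁻¹) * (a : G)⁻¹
        group)) }
  have hfree₃ : ∀ a v, v ≠ 0 → ρ₃ a v = v → a = 1 := by
    intro a v hv e
    set k := Additive.toMul v with hk
    have e' : (a : G) * (k : G) * (a : G)⁻¹ = k :=
      congrArg (fun z : Additive ↥K => ((Additive.toMul z : ↥K) : G)) e
    have hk1 : (k : G) ≠ 1 := fun h1 => hv (Additive.toMul.injective (Subtype.ext h1))
    by_contra ha
    by_cases hat : (a : G) = t
    · rw [hat, L.inv k k.2] at e'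
      refine hk1 ?_
      have hk2 : (k : G) * k = 1 := by nth_rw 1 [← e']; exact inv_mul_cancel _
      calc (k : G) = (k : G) * ((k : G) * k) := by rw [hk2, mul_one]
        _ = (k : G) ^ 3 := by simp only [pow_succ, pow_zero, one_mul, mul_assoc]
        _ = 1 := hexp k (L.DP (L.KD k.2))
    · exact hk1 (h.semiregA a.2 (fun e'' => ha (Subtype.ext e'')) hat (L.DP (L.KD k.2))
        (mul_inv_eq_iff_eq_mul.1 e'))
  obtain ⟨e₃, φ₃, he₃⟩ := exists_equiv_over (F := F) hAc ρ₃ hfree₃
    (by rw [hcA]; exact L.cardK.symm) (by rw [hcF]; exact L.cardK.symm)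
  -- the projection of `D` to `U`
  letI : CommGroup ↥U := { (inferInstance : Group ↥U) with
    mul_comm := fun a b => Subtype.ext (h.ree.commU a a.2 b b.2) }
  have hproj : ∀ p : ↥D, ∃ u : ↥U, (u : G)⁻¹ * p ∈ K := fun p => by
    obtain ⟨u, hu, k, hk, e⟩ := L.split p p.2
    exact ⟨⟨u, hu⟩, by rw [e]; simpa using hk⟩
  choose pr hpr using hproj
  have hpr_eq : ∀ (p : ↥D) (u : ↥U), (u : G)⁻¹ * p ∈ K → pr p = u := fun p u hu => by
    refine Subtype.ext (inv_mul_eq_one.1 (L.UK _ (mul_mem (inv_mem (pr p).2) u.2) ?_))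
    rw [show (pr p : G)⁻¹ * (u : G) = ((pr p : G)⁻¹ * p) * ((u : G)⁻¹ * p)⁻¹ by group]
    exact mul_mem (hpr p) (inv_mem hu)
  have hpr_mul : ∀ p p' : ↥D, pr (p * p') = pr p * pr p' := fun p p' => hpr_eq _ _ (by
    have hc := L.central _ (hpr p) (pr p' : G)⁻¹ (inv_mem (h.UP (pr p').2))
    rw [show ((pr p * pr p' : ↥U) : G)⁻¹ * ((p * p' : ↥D) : G) =
      ((pr p' : G)⁻¹ * ((pr p : G)⁻¹ * p)) * p' by simp only [Subgroup.coe_mul]; group, ← hc]
    rw [show (pr p : G)⁻¹ * p * (pr p' : G)⁻¹ * p' = ((pr p : G)⁻¹ * p) * ((pr p' : G)⁻¹ * p') by group]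
    exact mul_mem (hpr p) (hpr p'))
  have hcm : ∀ a ∈ P, ∀ b ∈ P, ⁅a, b⁆ ∈ D := fun a ha b hb => by
    rw [L.defD]; exact commutator_mem_commutator ha hb
  have hdk : ∀ a ∈ D, ∀ b ∈ P, ⁅a, b⁆ ∈ K := fun a ha b hb => by
    rw [L.defK]; exact commutator_mem_commutator ha hb
  -- the two forms
  let g₂ : ↥P → ↥P → ↥U := fun a b => pr ⟨⁅(a : G), (b : G)⁆, hcm _ a.2 _ b.2⟩
  have hg₂l : ∀ a a' b, g₂ (a * a') b = g₂ a b * g₂ a' b := fun a a' b => by
    have hconj : ∀ z : ↥D, pr ⟨(a : G) * z * (a : G)⁻¹, L.normD _ (h.P_le_N a.2) _ z.2⟩ = pr z :=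
      fun z => hpr_eq _ _ (by
        rw [show ((pr z : G))⁻¹ * ((a : G) * z * (a : G)⁻¹) =
          ((pr z : G)⁻¹ * (⁅(z : G), (a : G)⁆)⁻¹ * pr z) * ((pr z : G)⁻¹ * z) by
            simp only [commutatorElement_def]; group]
        refine mul_mem ?_ (hpr z)
        have hk := inv_mem (hdk _ z.2 _ a.2)
        rw [show (pr z : G)⁻¹ * (⁅(z : G), (a : G)⁆)⁻¹ * pr z = (⁅(z : G), (a : G)⁆)⁻¹ by
          rw [← L.central _ hk _ (inv_mem (h.UP (pr z).2)), mul_assoc, inv_mul_cancel, mul_one]]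
        exact hk)
    show pr _ = pr _ * pr _
    rw [mul_comm (pr _) (pr _), ← hconj ⟨⁅(a' : G), (b : G)⁆, hcm _ a'.2 _ b.2⟩, ← hpr_mul]
    exact congrArg pr (Subtype.ext (by simp only [Subgroup.coe_mul, commutatorElement_def]; group))
  have hg₂skew : ∀ a b, g₂ b a = (g₂ a b)⁻¹ := fun a b => by
    refine eq_inv_of_mul_eq_one_left ?_
    show pr _ * pr _ = 1
    rw [← hpr_mul]
    refine hpr_eq _ _ ?_
    simp only [Subgroup.coe_one, Subgroup.coe_mul, inv_one, one_mul]
    rw [show ⁅(b : G), (a : G)⁆ * ⁅(a : G), (b : G)⁆ = 1 by simp only [commutatorElement_def]; group]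
    exact one_mem K
  have hg₂r : ∀ a b b', g₂ a (b * b') = g₂ a b * g₂ a b' := fun a b b' => by
    rw [hg₂skew, hg₂l, mul_inv_rev, ← hg₂skew, ← hg₂skew, mul_comm]
  have hg₂D : ∀ a b, π a = 1 → g₂ a b = 1 := fun a b ha => hpr_eq _ _ (by
    simp only [Subgroup.coe_one, inv_one, one_mul]
    exact hdk _ ((hπ a).1 ha) _ b.2)
  have hg₂π : ∀ a a' b b', π a = π a' → π b = π b' → g₂ a b = g₂ a' b' := by
    have key : ∀ a a' b, π a = π a' → g₂ a b = g₂ a' b := fun a a' b e => by
      rw [show a' = a * (a⁻¹ * a') by group, hg₂l,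
        hg₂D (a⁻¹ * a') b (by rw [map_mul, map_inv, e, inv_mul_cancel]), mul_one]
    intro a a' b b' ea eb
    rw [key a a' b ea, hg₂skew, key b b' a' eb, ← hg₂skew]
  let g₃ : ↥U → ↥P → ↥K := fun w y => ⟨⁅(w : G), (y : G)⁆, hdk _ (L.UD w.2) _ y.2⟩
  have hg₃l : ∀ w w' y, g₃ (w * w') y = g₃ w y * g₃ w' y := fun w w' y => by
    rw [mul_comm (g₃ w y)]
    refine Subtype.ext ?_
    show ⁅(w : G) * w', (y : G)⁆ = ⁅(w' : G), (y : G)⁆ * ⁅(w : G), (y : G)⁆
    rw [show ⁅(w : G) * w', (y : G)⁆ = (w : G) * ⁅(w' : G), (y : G)⁆ * (w : G)⁻¹ * ⁅(w : G), (y : G)⁆ by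
      simp only [commutatorElement_def]; group,
      ← L.central _ (hdk _ (L.UD w'.2) _ y.2) _ (h.UP w.2), mul_inv_cancel_right]
  have hg₃r : ∀ w y y', g₃ w (y * y') = g₃ w y * g₃ w y' := fun w y y' => by
    refine Subtype.ext ?_
    show ⁅(w : G), (y : G) * y'⁆ = ⁅(w : G), (y : G)⁆ * ⁅(w : G), (y' : G)⁆
    rw [show ⁅(w : G), (y : G) * y'⁆ = ⁅(w : G), (y : G)⁆ * ((y : G) * ⁅(w : G), (y' : G)⁆ * (y : G)⁻¹) by
      simp only [commutatorElement_def]; group,
      ← L.central _ (hdk _ (L.UD w.2) _ y'.2) _ y.2, mul_inv_cancel_right]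
  have hg₃π : ∀ w y y', π y = π y' → g₃ w y = g₃ w y' := fun w y y' e => by
    rw [show y' = y * (y⁻¹ * y') by group, hg₃r]
    refine (mul_eq_left.2 (Subtype.ext ?_)).symm
    exact commutatorElement_eq_one_iff_mul_comm.2
      (L.commD _ (L.UD w.2) _ ((hπ _).1 (by rw [map_mul, map_inv, e, inv_mul_cancel])))
  let R : F → ↥P := fun x => rep (Additive.toMul (e₁ x))
  have hR : ∀ x, π (R x) = Additive.toMul (e₁ x) := fun x => hrep _
  have hRadd : ∀ x y, π (R (x + y)) = π (R x * R y) := fun x y => by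
    rw [map_mul, hR, hR, hR, map_add]; rfl
  let c : F →+ F →+ Additive ↥U := AddMonoidHom.mk'
    (fun x => AddMonoidHom.mk' (fun y => Additive.ofMul (g₂ (R x) (R y))) fun y y' => by
      rw [hg₂π _ (R x) _ (R y * R y') rfl (hRadd y y'), hg₂r]; rfl)
    fun x x' => DFunLike.ext _ _ fun y => by
      show Additive.ofMul (g₂ (R (x + x')) (R y)) = Additive.ofMul (g₂ (R x) (R y) * g₂ (R x') (R y))
      rw [hg₂π _ (R x * R x') _ (R y) (hRadd x x') rfl, hg₂l]
  let B : Additive ↥U →+ F →+ F := AddMonoidHom.mk'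
    (fun w => AddMonoidHom.mk' (fun z => e₃.symm (Additive.ofMul (g₃ (Additive.toMul w) (R z)))) fun z z' => by
      rw [hg₃π _ _ (R z * R z') (hRadd z z'), hg₃r, ofMul_mul, map_add])
    fun w w' => DFunLike.ext _ _ fun z => by
      show e₃.symm (Additive.ofMul (g₃ (Additive.toMul w * Additive.toMul w') (R z))) = _
      rw [hg₃l, ofMul_mul, map_add]
      rfl
  let act : Fˣ → Additive ↥U → Additive ↥U := fun α w =>
    Additive.ofMul (⟨((φ₁.symm α : ↥A) : G) * (Additive.toMul w : ↥U) * ((φ₁.symm α : ↥A) : G)⁻¹, by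
      have hn : ∀ a ∈ A, ∀ x ∈ U, a * x * a⁻¹ ∈ U := fun a ha x hx => by
        rcases h.ree.mem_tT ha with ha' | ha'
        · exact h.ree.norm a ha' x hx
        · have := h.ree.norm _ ha' x hx
          rw [show a * x * a⁻¹ = t * (t * a * x * (t * a)⁻¹) * t⁻¹ by
            rw [mul_inv_rev, h.ree.t_inv]
            calc a * x * a⁻¹ = (t * t) * a * x * a⁻¹ * (t * t) := by rw [h.ree.tt]; group
              _ = _ := by group]
          rwa [← h.ree.comm _ (h.ree.UE this), mul_inv_cancel_right]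
      exact hn _ (φ₁.symm α).2 _ (Additive.toMul w).2⟩ : ↥U)
  have hRmul : ∀ (α : Fˣ) x, π (R ((α : F) * x)) = π (cj (φ₁.symm α) (R x)) := fun α x => by
    have := he₁ (φ₁.symm α) x
    rw [MulEquiv.apply_symm_apply] at this
    rw [hR, this]
    rfl
  have hcDeq : ∀ (a : ↥A) (p : G), p ∈ D → (a : G) * p * (a : G)⁻¹ ∈ D := fun a p hp =>
    L.normD a (hAN a.2) p hp
  refine absurd_of_alternating hFf hf2 (L := Additive ↥U) ?_ act ?_ c B
    ((φ₃.toMonoidHom).comp φ₁.symm.toMonoidHom) (φ₃.injective.comp φ₁.symm.injective) ?_ ?_ ?_ ?_ ?_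
  · rw [hcF]; exact h.ree.cardU
  · -- irreducible
    intro S hS
    let S' : Subgroup G := (AddSubgroup.toSubgroup' S).map U.subtype
    have hS'U : S' ≤ U := map_subtype_le _
    have hmem : ∀ u : ↥U, (u : G) ∈ S' ↔ Additive.ofMul u ∈ S := fun u => by
      simp [S', mem_map]
    have hinv : ∀ a ∈ T, ∀ x ∈ S', a * x * a⁻¹ ∈ S' := by
      intro a ha x hx
      have hxU := hS'U hx
      have := hS (φ₁ ⟨a, mem_sup_right ha⟩) _ ((hmem ⟨x, hxU⟩).1 hx)
      refine (hmem ⟨_, h.ree.norm a ha x hxU⟩).2 ?_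
      convert this using 1
      simp only [act, MulEquiv.symm_apply_apply, toMul_ofMul]
    have hle : Nat.card S' ≤ q :=
      h.ree.cardU ▸ Nat.le_of_dvd Nat.card_pos (card_dvd_of_le hS'U)
    have hq3 : 3 ≤ q := by omega
    rcases card_cases h (hS'U.trans h.UP) hinv with e | e | e | e
    · left
      refine (AddSubgroup.eq_bot_iff_forall _).2 fun w hw => ?_
      have := (hmem (Additive.toMul w)).2 hw
      rw [Subgroup.card_eq_one.1 e, mem_bot] at this
      exact Additive.toMul.injective (Subtype.ext this)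
    all_goals
      right
      refine (AddSubgroup.eq_top_iff' _).2 fun w => (hmem (Additive.toMul w)).1 ?_
      exact (eq_of_le_of_card_ge hS'U (by
        rw [h.ree.cardU]; nlinarith [Nat.mul_le_mul hq3 hq3, e])).ge (Additive.toMul w).2
  · -- `c` is equivariant
    intro α x y
    show Additive.ofMul (g₂ (R _) (R _)) = _
    refine congrArg Additive.ofMul ((hg₂π _ _ _ _ (hRmul α x) (hRmul α y)).trans (hpr_eq _ _ ?_))
    set a := φ₁.symm α
    set u := g₂ (R x) (R y)
    have hk := hpr ⟨⁅(R x : G), (R y : G)⁆, hcm _ (R x).2 _ (R y).2⟩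
    have := L.normK a (hAN a.2) _ hk
    simp only [cj, toMul_ofMul] at this ⊢
    convert this using 1
    show ((a : G) * (u : G) * (a : G)⁻¹)⁻¹ * _ = _
    rw [show u = pr ⟨⁅(R x : G), (R y : G)⁆, hcm _ (R x).2 _ (R y).2⟩ from rfl]
    simp only [commutatorElement_def]
    group
  · -- `B` is equivariant
    intro α w z
    rw [MonoidHom.comp_apply]
    apply e₃.injective
    show e₃ (e₃.symm _) = _
    rw [AddEquiv.apply_symm_apply]
    refine Eq.trans ?_ (he₃ (φ₁.symm α) _).symm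
    show _ = ρ₃ _ (e₃ (e₃.symm _))
    rw [AddEquiv.apply_symm_apply]
    refine congrArg Additive.ofMul ((hg₃π _ _ _ (hRmul α z)).trans (Subtype.ext ?_))
    show ⁅_, _⁆ = _
    simp only [act, cj, toMul_ofMul, g₃]
    simp only [commutatorElement_def]
    group
  · intro x y
    show Additive.ofMul (g₂ (R y) (R x)) = -Additive.ofMul (g₂ (R x) (R y))
    rw [hg₂skew]
    rfl
  · -- alternating
    have hzero : ∀ x y, B (c x y) y = 0 := fun x y => by
      show e₃.symm _ = 0
      rw [AddEquiv.map_eq_zero_iff]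
      refine congrArg Additive.ofMul (Subtype.ext ?_ : g₃ (g₂ (R x) (R y)) (R y) = 1)
      obtain ⟨k, hk, hke⟩ : ∃ k ∈ K, ⁅(R x : G), (R y : G)⁆ = (g₂ (R x) (R y) : G) * k :=
        ⟨_, hpr ⟨⁅(R x : G), (R y : G)⁆, hcm _ (R x).2 _ (R y).2⟩, by rw [mul_inv_cancel_left]⟩
      have he := engel hexp (R x).2 (R y).2
      rw [hke, commutatorElement_eq_one_iff_mul_comm] at he
      show ⁅(g₂ (R x) (R y) : G), (R y : G)⁆ = 1
      rw [commutatorElement_eq_one_iff_mul_comm]
      have := (show Commute ((g₂ (R x) (R y) : G) * k) (R y) from he).mul_left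
        (show Commute k (R y) from L.central k hk _ (R y).2).inv_left
      rwa [mul_inv_cancel_right] at this
    intro x y z
    refine eq_neg_of_add_eq_zero_right ?_
    have := hzero x (y + z)
    simp only [map_add, AddMonoidHom.add_apply, hzero, zero_add, add_zero] at this
    first
      | exact this
      | (rw [add_comm]; exact this)
  · -- non-zero
    by_contra hne
    push Not at hne
    have hKbot : K = ⊥ := by
      have hcomm : ∀ a b y : ↥P, ⁅((g₂ a b : ↥U) : G), (y : G)⁆ = 1 := fun a b y => by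
        have hx : ∀ p : ↥P, π (R (e₁.symm (Additive.ofMul (π p)))) = π p := fun p => by
          rw [hR, AddEquiv.apply_symm_apply]; rfl
        have := hne (e₁.symm (Additive.ofMul (π a))) (e₁.symm (Additive.ofMul (π b)))
          (e₁.symm (Additive.ofMul (π y)))
        change e₃.symm _ = 0 at this
        rw [AddEquiv.map_eq_zero_iff] at this
        have e' := congrArg (fun z : Additive ↥K => ((Additive.toMul z : ↥K) : G)) this
        change ((g₃ (g₂ (R (e₁.symm (Additive.ofMul (π a)))) (R (e₁.symm (Additive.ofMul (π b)))))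
          (R (e₁.symm (Additive.ofMul (π y)))) : ↥K) : G) = 1 at e'
        rw [hg₂π _ a _ b (hx a) (hx b)] at e'
        rwa [hg₃π _ _ y (hx y)] at e'
      rw [L.defK, commutator_eq_bot_iff_le_centralizer, L.defD, commutator_le]
      intro a ha b hb
      refine mem_centralizer_iff.2 fun y hy => ?_
      obtain ⟨k, hk, hke⟩ : ∃ k ∈ K, ⁅a, b⁆ = (g₂ ⟨a, ha⟩ ⟨b, hb⟩ : G) * k :=
        ⟨_, hpr ⟨⁅a, b⁆, hcm _ ha _ hb⟩, by rw [mul_inv_cancel_left]⟩
      rw [hke]
      exact (((show Commute (g₂ ⟨a, ha⟩ ⟨b, hb⟩ : G) y from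
        commutatorElement_eq_one_iff_mul_comm.1 (hcomm ⟨a, ha⟩ ⟨b, hb⟩ ⟨y, hy⟩)).mul_left
        (show Commute k y from L.central k hk y hy)).symm).eq
    have := L.cardK
    rw [hKbot, card_bot] at this
    omega

end Cfsg.Agent.Lib.ReeNine68
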