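import Cfsg.Agent.Lib.AllAbelian80.Ree.Contra
import Cfsg.Agent.Lib.Induced.Generalized
import Cfsg.Agent.Lib.Characters.Generalized

/-!
# Ree order: the characters over the moved linear characters of a Sylow 3-subgroup

If `|P : P'| ≥ q²` there are `q` irreducible characters of the same degree with the same values at
the elements not conjugate into `P`.

Owner: helper68.
-/

set_option autoImplicit false
set_option linter.style.haveILetI false
set_option linter.unusedSectionVars false

universe u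

namespace Cfsg.Agent.Lib.ReeNine68

open Subgroup Cfsg.Agent.Lib.Characters.Basic Cfsg.Agent.Lib.AllAbelian80.Ree
open scoped ComplexConjugate

variable {G : Type u} [Group G] [Fintype G]

/-- A family of norm two differences with mutual inner products one has a common constituent. -/
theorem common_of_star {ι : Type} [Fintype ι] (hι : 3 ≤ Fintype.card ι)
    (α β : ι → Cfsg.IrrCharacter G) (hαβ : ∀ i, α i ≠ β i)
    (h : ∀ i j, i ≠ j → Cfsg.classInner ((α i : G → ℂ) - (β i : G → ℂ))
      ((α j : G → ℂ) - (β j : G → ℂ)) = 1) :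
    ((∀ i j, α i = α j) ∧ Function.Injective β) ∨ ((∀ i j, β i = β j) ∧ Function.Injective α) := by
  classical
  have share : ∀ i j, i ≠ j → (α i = α j ∧ β i ≠ β j) ∨ (β i = β j ∧ α i ≠ α j) := by
    intro i j hij
    have e := h i j hij
    rw [Induced.Basic.classInner_sub_left, Induced.Basic.classInner_sub_right,
      Induced.Basic.classInner_sub_right, classInner_irr, classInner_irr, classInner_irr,
      classInner_irr] at e
    have hi := hαβ i
    have hj := hαβ j
    by_cases h1 : α i = α j <;> by_cases h2 : β i = β j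
    · have n1 : α i ≠ β j := h1 ▸ hj
      have n2 : β i ≠ α j := fun e' => hi (h1.trans e'.symm)
      rw [if_pos h1, if_pos h2, if_neg n1, if_neg n2] at e
      norm_num at e
    · exact Or.inl ⟨h1, h2⟩
    · exact Or.inr ⟨h2, h1⟩
    · rw [if_neg h1, if_neg h2] at e
      split_ifs at e <;> norm_num at e
  obtain ⟨i, j, k, hij, hik, hjk⟩ := Fintype.two_lt_card_iff.1 (show 2 < Fintype.card ι by omega)
  have trans : ∀ a b c, a ≠ b → a ≠ c → b ≠ c → α a = α b → α a = α c := by
    intro a b c hab hac hbc e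
    rcases share a c hac with h1 | ⟨h1, h1'⟩
    · exact h1.1
    · rcases share b c hbc with h2 | ⟨h2, -⟩
      · exact e.trans h2.1
      · rcases share a b hab with h3 | h3
        · exact absurd (h1.trans h2.symm) h3.2
        · exact absurd e h3.2
  by_cases hall : ∀ a b, α a = α b
  · refine Or.inl ⟨hall, fun a b e => by_contra fun hab => ?_⟩
    rcases share a b hab with h1 | h1
    exacts [h1.2 e, h1.2 (hall a b)]
  · have hne : ∀ a b, a ≠ b → α a ≠ α b := by
      intro a b hab e
      refine hall fun c c' => ?_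
      have : ∀ x, α a = α x := fun x => by
        rcases eq_or_ne a x with rfl | hax
        · rfl
        rcases eq_or_ne b x with rfl | hbx
        · exact e
        exact trans a b x hab hax hbx e
      exact (this c).symm.trans (this c')
    refine Or.inr ⟨fun a b => ?_, fun a b e => by_contra fun hab => hne a b hab e⟩
    rcases eq_or_ne a b with rfl | hab
    · rfl
    rcases share a b hab with h1 | h1
    exacts [absurd h1.1 (hne a b hab), h1.1]

variable {q d : ℕ} {t s : G} {T P N M : Subgroup G} (b : BN G q d t s T P N M)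

include b

/-- With `|P : P'| ≥ q²` there are `q` pairwise inequivalent moved linear characters of `P`. -/
theorem exists_moved [Fintype ↥P] (hT : Nat.card T = d) (hq : q = 2 * d + 1) (hd : 2 ≤ d)
    (hU : Nat.card {x : ↥P // t * (x : G) = (x : G) * t} ≤ q)
    (hidx : q ^ 2 ≤ (commutator ↥P).index) :
    ∃ ψ : Fin (q - 1 + 1) → (↥P →* ℂˣ), (∀ i, BN.Moved b (ψ i)) ∧
      ∀ i j, i ≠ j → ¬ BN.Eqv b (ψ i) (ψ j) := by
  classical
  have hlin : Nat.card (↥P →* ℂˣ) = (commutator ↥P).index := by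
    rw [Nat.card_congr (Characters.Linear.linEquiv ↥P)]
    exact Characters.Linear.card_linear
  haveI : Finite (↥P →* ℂˣ) := Nat.finite_of_card_ne_zero (by rw [hlin]; exact index_ne_zero_of_finite)
  letI := Fintype.ofFinite (↥P →* ℂˣ)
  set τ : ↥N := ⟨t, b.tN⟩
  -- the fixed characters are trivial on a subgroup of order at least `q²`
  let φ : ↥P → ↥P := fun x => x⁻¹ * ⟨t * x * t⁻¹, b.norm t b.tN x x.2⟩
  let K : Subgroup ↥P := ⨅ ψ : {ψ : ↥P →* ℂˣ // BN.pull b τ ψ = ψ}, ψ.1.ker
  have hφK : ∀ x, φ x ∈ K := fun x => by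
    refine mem_iInf.2 fun ψ => ?_
    have e := congrArg (fun χ : ↥P →* ℂˣ => χ x) ψ.2
    simp only [BN.pull_apply] at e
    rw [MonoidHom.mem_ker]
    simp only [φ, map_mul, map_inv]
    exact inv_mul_eq_one.2 e.symm
  have hfib : ∀ x y : ↥P, φ x = φ y → t * ((y * x⁻¹ : ↥P) : G) = ((y * x⁻¹ : ↥P) : G) * t := by
    intro x y e
    have e' : (x : G)⁻¹ * (t * x * t⁻¹) = (y : G)⁻¹ * (t * y * t⁻¹) := congrArg Subtype.val e
    have h1 : (y : G) * (x : G)⁻¹ = (t * y * t⁻¹) * (t * x * t⁻¹)⁻¹ := by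
      calc (y : G) * (x : G)⁻¹ = (y : G) * ((x : G)⁻¹ * (t * x * t⁻¹)) * (t * x * t⁻¹)⁻¹ := by group
        _ = _ := by rw [e']; group
    simp only [Subgroup.coe_mul, Subgroup.coe_inv]
    calc t * ((y : G) * (x : G)⁻¹) = (t * y * t⁻¹) * (t * x * t⁻¹)⁻¹ * t := by group
      _ = _ := by rw [← h1]
  have hcardK : Nat.card ↥P ≤ Nat.card ↥K * q := by
    have h1 : Nat.card ↥P ≤ Nat.card (↥K × {x : ↥P // t * (x : G) = (x : G) * t}) := by
      have hsec : ∀ k : ↥K, ∃ p : ↥P, (∃ x, φ x = k) → φ p = k := fun k => by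
        by_cases hk : ∃ x, φ x = k
        · exact ⟨hk.choose, fun _ => hk.choose_spec⟩
        · exact ⟨1, fun h => absurd h hk⟩
      choose sec hsec using hsec
      refine Nat.card_le_card_of_injective
        (fun x : ↥P => (⟨φ x, hφK x⟩,
          ⟨x * (sec ⟨φ x, hφK x⟩)⁻¹, hfib _ _ (hsec ⟨φ x, hφK x⟩ ⟨x, rfl⟩)⟩)) ?_
      intro x y e
      have e1 := congrArg Prod.fst e
      have e2 := congrArg (fun z => (z.2 : ↥P)) e
      simp only at e1 e2
      rw [e1] at e2
      exact mul_right_cancel e2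
    rw [Nat.card_prod] at h1
    exact h1.trans (Nat.mul_le_mul_left _ hU)
  haveI : K.Normal := normal_iInf_normal fun ψ => MonoidHom.normal_ker _
  have hfix : Nat.card {ψ : ↥P →* ℂˣ // BN.pull b τ ψ = ψ} ≤ q := by
    have h1 : Nat.card {ψ : ↥P →* ℂˣ // BN.pull b τ ψ = ψ} ≤ Nat.card ((↥P ⧸ K) →* ℂˣ) := by
      haveI : Finite ((↥P ⧸ K) →* ℂˣ) := Nat.finite_of_card_ne_zero (by
        rw [Nat.card_congr (Characters.Linear.linEquiv (↥P ⧸ K)), Characters.Linear.card_linear]
        exact index_ne_zero_of_finite)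
      refine Nat.card_le_card_of_injective
        (fun ψ => QuotientGroup.lift K ψ.1 (iInf_le _ ψ)) fun ψ ψ' e => Subtype.ext ?_
      ext x
      have := congrArg (fun f : (↥P ⧸ K) →* ℂˣ => (f (x : ↥P ⧸ K) : ℂ)) e
      simpa using this
    have h2 : Nat.card ((↥P ⧸ K) →* ℂˣ) ≤ K.index := by
      rw [Nat.card_congr (Characters.Linear.linEquiv (↥P ⧸ K)), Characters.Linear.card_linear,
        Subgroup.index_eq_card K]
      exact Nat.le_of_dvd Nat.card_pos (index_dvd_card _)
    have h3 : K.index ≤ q := by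
      have := K.card_mul_index
      rw [← this] at hcardK
      exact Nat.le_of_mul_le_mul_left hcardK Nat.card_pos
    omega
  -- the moved characters
  set Mv : Finset (↥P →* ℂˣ) := Finset.univ.filter fun ψ => BN.Moved b ψ
  have hMv : q ^ 2 ≤ Mv.card + q := by
    have hf := Finset.card_filter_add_card_filter_not (s := (Finset.univ : Finset (↥P →* ℂˣ)))
      (fun ψ => BN.Moved b ψ)
    rw [Finset.card_univ, ← Nat.card_eq_fintype_card, hlin] at hf
    have : (Finset.univ.filter fun ψ : ↥P →* ℂˣ => ¬ BN.Moved b ψ).card ≤ q := by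
      refine le_trans (le_of_eq ?_) hfix
      rw [Nat.card_eq_fintype_card, Fintype.card_subtype]
      congr 1
      exact Finset.filter_congr fun ψ _ => not_not
    have hk : (Finset.univ.filter fun ψ : ↥P →* ℂˣ => BN.Moved b ψ).card = Mv.card := rfl
    omega
  -- a maximal inequivalent set
  obtain ⟨S, hSm, hSmax⟩ := (Mv.powerset.filter fun S : Finset (↥P →* ℂˣ) =>
    ∀ a ∈ S, ∀ c ∈ S, a ≠ c → ¬ BN.Eqv b a c).exists_maximal ⟨∅, by simp⟩
  rw [Finset.mem_filter, Finset.mem_powerset] at hSm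
  have hcov : Mv ⊆ S.biUnion fun ψ => Finset.univ.filter fun φ => BN.Eqv b φ ψ := by
    intro φ' hφ'
    by_contra hnot
    simp only [Finset.mem_biUnion, Finset.mem_filter, Finset.mem_univ, true_and, not_exists, not_and] at hnot
    have hsymm : ∀ a c, BN.Eqv b a c → BN.Eqv b c a := by
      rintro a c ⟨g, rfl⟩
      refine ⟨g⁻¹, ?_⟩
      rw [← b.pull_mul, mul_inv_cancel, b.pull_P 1 P.one_mem]
    have hnm : φ' ∉ S := fun h' => hnot φ' h' ⟨1, b.pull_P 1 P.one_mem φ'⟩
    refine hnm (hSmax (y := insert φ' S) ?_ (Finset.subset_insert φ' S) (Finset.mem_insert_self φ' S))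
    simp only [Finset.mem_filter, Finset.mem_powerset]
    refine ⟨Finset.insert_subset hφ' hSm.1, fun a ha c hc hac => ?_⟩
    rw [Finset.mem_insert] at ha hc
    rcases ha with rfl | ha <;> rcases hc with rfl | hc
    · exact absurd rfl hac
    · exact hnot c hc
    · exact fun h' => hnot a ha (hsymm _ _ h')
    · exact hSm.2 a ha c hc hac
  have hScard : q ≤ S.card := by
    have h1 := (Finset.card_le_card hcov).trans (Finset.card_biUnion_le)
    have h2 : ∑ ψ ∈ S, (Finset.univ.filter fun φ => BN.Eqv b φ ψ).card ≤ S.card * (2 * d) := by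
      refine (Finset.sum_le_card_nsmul _ _ _ fun ψ _ => b.card_eqv_le hT ψ).trans ?_
      rw [smul_eq_mul]
    have h3 : q * (2 * d) + q = q ^ 2 := by rw [hq]; ring
    by_contra hlt
    push Not at hlt
    have : S.card * (2 * d) < q * (2 * d) := Nat.mul_lt_mul_of_pos_right hlt (by omega)
    omega
  obtain ⟨S', hS', hS'card⟩ := Finset.exists_subset_card_eq (show q - 1 + 1 ≤ S.card by omega)
  let e := (S'.equivFinOfCardEq hS'card).symm
  exact ⟨fun i => (e i : ↥P →* ℂˣ), fun i => (Finset.mem_filter.1 (hSm.1 (hS' (e i).2))).2,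
    fun i j hij => hSm.2 _ (hS' (e i).2) _ (hS' (e j).2) fun h' => hij (e.injective (Subtype.ext h'))⟩

/-- The family of irreducible characters. -/
theorem exists_family [IsSimpleGroup G] [Fintype ↥P] (hT : Nat.card T = d) (hq : q = 2 * d + 1)
    (hd : 2 ≤ d) (hU : Nat.card {x : ↥P // t * (x : G) = (x : G) * t} ≤ q)
    (hidx : q ^ 2 ≤ (commutator ↥P).index) :
    ∃ ζ : Fin (2 * d) → Cfsg.IrrCharacter G, Function.Injective ζ ∧
      ∀ i j (x : G), (x = 1 ∨ ∀ g : G, g⁻¹ * x * g ∉ P) → (ζ i : G → ℂ) x = (ζ j : G → ℂ) x := by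
  classical
  obtain ⟨ψ, hψm, hψe⟩ := exists_moved b hT hq hd hU hidx
  let e : Fin (2 * d + 1) ≃ Fin (q - 1 + 1) := finCongr (by omega)
  let φ : Fin (2 * d + 1) → G → ℂ := fun i => Cfsg.indFun P fun x => ((ψ (e i) x : ℂˣ) : ℂ)
  have hgen : ∀ i, Cfsg.IsGeneralizedCharacter G (φ i) := fun i =>
    Induced.Character.isGeneralizedCharacter_indFun P (Characters.Generalized.of_isCharacter
      (isCharacter_irr (Characters.Linear.linChar (ψ (e i)))))
  have hin : ∀ i j, Cfsg.classInner (φ i) (φ j) = (if i = j then 1 else 0) + b.const := fun i j => by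
    rw [b.inner_ind (hψm (e j))]
    congr 1
    by_cases hij : i = j
    · subst hij; rw [if_pos rfl, if_pos ⟨1, b.pull_P 1 P.one_mem _⟩]
    · rw [if_neg hij, if_neg (hψe _ _ (e.injective.ne hij))]
  have hdiff : ∀ i j, i ≠ j → ∀ x : G, (x = 1 ∨ ∀ g : G, g⁻¹ * x * g ∉ P) → φ i x = φ j x := by
    rintro i j - x (rfl | hx)
    · simp only [φ, Induced.Basic.indFun_one, map_one]
    · simp only [φ, Induced.Basic.indFun_eq_zero_of_forall_not_mem P _ hx]
  have hsub : ∀ i : Fin (2 * d), ∃ χ χ' : Cfsg.IrrCharacter G, χ ≠ χ' ∧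
      φ 0 - φ i.succ = (χ : G → ℂ) - (χ' : G → ℂ) := fun i => by
    refine Induced.Generalized.exists_sub_of_norm_two
      (Characters.Generalized.sub (hgen 0) (hgen i.succ)) ?_ ?_
    · rw [Induced.Basic.classInner_sub_left, Induced.Basic.classInner_sub_right,
        Induced.Basic.classInner_sub_right, hin, hin, hin, hin, if_pos rfl, if_pos rfl,
        if_neg (Fin.succ_ne_zero i).symm, if_neg (Fin.succ_ne_zero i)]
      ring
    · rw [Pi.sub_apply, hdiff 0 i.succ (Fin.succ_ne_zero i).symm 1 (Or.inl rfl), sub_self]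
  choose α β hαβ hab using hsub
  have hstar : ∀ i j, i ≠ j → Cfsg.classInner ((α i : G → ℂ) - (β i : G → ℂ))
      ((α j : G → ℂ) - (β j : G → ℂ)) = 1 := fun i j hij => by
    rw [← hab, ← hab, Induced.Basic.classInner_sub_left, Induced.Basic.classInner_sub_right,
      Induced.Basic.classInner_sub_right, hin, hin, hin, hin, if_pos rfl,
      if_neg (Fin.succ_ne_zero j).symm, if_neg (Fin.succ_ne_zero i),
      if_neg (fun h' => hij (Fin.succ_injective _ h'))]
    ring
  have heq : ∀ i j (x : G), (x = 1 ∨ ∀ g : G, g⁻¹ * x * g ∉ P) →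
      (α i : G → ℂ) x - (β i : G → ℂ) x = 0 ∧ (α j : G → ℂ) x - (β j : G → ℂ) x = 0 := fun i j x hx => by
    constructor
    · rw [← Pi.sub_apply, ← hab, Pi.sub_apply, hdiff 0 i.succ (Fin.succ_ne_zero i).symm x hx, sub_self]
    · rw [← Pi.sub_apply, ← hab, Pi.sub_apply, hdiff 0 j.succ (Fin.succ_ne_zero j).symm x hx, sub_self]
  rcases common_of_star (by rw [Fintype.card_fin]; omega) α β hαβ hstar with ⟨hc, hinj⟩ | ⟨hc, hinj⟩
  · refine ⟨β, hinj, fun i j x hx => ?_⟩
    obtain ⟨h1, h2⟩ := heq i j x hx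
    rw [hc i j] at h1
    linear_combination h2 - h1
  · refine ⟨α, hinj, fun i j x hx => ?_⟩
    obtain ⟨h1, h2⟩ := heq i j x hx
    rw [hc i j] at h1
    linear_combination h1 - h2

end Cfsg.Agent.Lib.ReeNine68
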