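import Cfsg.Agent.Lib.ReeNine68.Family
import Cfsg.Agent.Lib.ReeNine68.Column

/-!
# Ree order: `|P : P'| < q²`

The family of `q - 1` characters over the moved linear characters contradicts the column relations.

Owner: helper68.
-/

set_option autoImplicit false
set_option linter.style.haveILetI false
set_option linter.unusedSectionVars false

universe u

namespace Cfsg.Agent.Lib.ReeNine68

open Subgroup Cfsg.Agent.Lib.Characters.Basic Cfsg.Agent.Lib.AllAbelian80.Ree
open Cfsg.Agent.Lib.ReeTorus80
open scoped ComplexConjugate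

variable {G : Type u} [Group G] [Fintype G] {q d r : ℕ} {t s : G} {E U T P N M Y W : Subgroup G}
  (h : Setting G q d t s E U T P N M Y W)

include h

/-- A linear character of the simple group is trivial. -/
theorem eq_oneChar_of_degree_one [IsSimpleGroup G] (χ : Cfsg.IrrCharacter G)
    (h1 : (χ : G → ℂ) 1 = 1) : χ = oneChar G := by
  set f := Characters.Linear.degOneHom (isCharacter_irr χ) h1
  rcases IsSimpleGroup.eq_bot_or_eq_top_of_normal f.ker (MonoidHom.normal_ker f) with hb | ht
  · exfalso
    obtain ⟨a, ha, ha1⟩ := h.ree.exists_T_ne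
    refine h.ree.T_inv_ne ha ha1 ?_
    have hcomm : ∀ x y : G, x * y = y * x := fun x y =>
      (f.ker_eq_bot_iff.1 hb) (by rw [map_mul, map_mul, mul_comm])
    rw [← h.ree.inv a ha, hcomm s a, mul_inv_cancel_right]
  · refine Subtype.ext (funext fun g => ?_)
    rw [oneChar_apply, ← Characters.Linear.degOneHom_apply (isCharacter_irr χ) h1 g]
    have hg : g ∈ f.ker := ht.ge (mem_top g)
    rw [MonoidHom.mem_ker] at hg
    rw [hg, Units.val_one]

/-- `|P : P'| < q²`. -/
theorem index_commutator_lt [IsSimpleGroup G] (hr : q = 3 * r ^ 2)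
    (hno : ∀ x : G, x ≠ 1 → orderOf x ∣ q ^ 2 - q + 1 →
      orderOf x ∣ q + 1 + 3 * r ∨ orderOf x ∣ q + 1 - 3 * r) :
    (commutator ↥P).index < q ^ 2 := by
  classical
  by_contra hge
  push Not at hge
  letI : Fintype ↥P := Fintype.ofFinite _
  letI := Fintype.ofFinite (Cfsg.IrrCharacter G)
  have hU : Nat.card {x : ↥P // t * (x : G) = (x : G) * t} ≤ q := by
    rw [← h.ree.cardU]
    exact Nat.card_le_card_of_injective (fun x => (⟨x.1, h.fixU _ x.1.2 x.2.symm⟩ : ↥U))
      fun a c e => Subtype.ext (Subtype.ext (congrArg (fun z : ↥U => (z : G)) e))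
  obtain ⟨ζ, hinj, heq⟩ := exists_family h.bn h.ree.cardT h.q_eq h.d_big hU hge
  have hd := h.d_big
  haveI : NeZero (2 * d) := ⟨by omega⟩
  have hne : ∀ i, ζ i ≠ oneChar G := by
    intro i e
    obtain ⟨j, hj⟩ : ∃ j, j ≠ i := by
      haveI : Nontrivial (Fin (2 * d)) := Fin.nontrivial_iff_two_le.2 (by omega)
      exact exists_ne i
    refine hj (hinj ((eq_oneChar_of_degree_one h (ζ j) ?_).trans e.symm))
    rw [heq j i 1 (Or.inl rfl), e, oneChar_apply]
  refine absurd_of_bound h hr hno (ζ 0) fun x hx => ?_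
  have hx' : x = 1 ∨ ∀ g : G, g⁻¹ * x * g ∉ P := hx.imp id fun hnd g hg => hnd (by
    have := Subgroup.orderOf_dvd_natCard P hg
    rwa [h.bn.cardP, show g⁻¹ * x * g = g⁻¹ * x * g⁻¹⁻¹ by rw [inv_inv], orderOf_conj'] at this)
  have hsum := congrArg Complex.re (Characters.Complete.sum_irr_mul_conj x x)
  rw [if_pos (IsConj.refl x), Complex.natCast_re, Complex.re_sum] at hsum
  simp only [Complex.mul_conj, Complex.ofReal_re] at hsum
  rw [← hsum]
  refine le_trans (le_of_eq ?_) (Finset.sum_le_sum_of_subset_of_nonneg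
    (Finset.subset_univ (insert (oneChar G) (Finset.univ.image ζ))) fun _ _ _ => Complex.normSq_nonneg _)
  rw [Finset.sum_insert (by simpa using hne), Finset.sum_image fun a _ c _ e => hinj e, oneChar_apply,
    map_one, Finset.sum_congr rfl fun i _ => by rw [heq i 0 x hx'], Finset.sum_const, Finset.card_univ,
    Fintype.card_fin, nsmul_eq_mul]
  push_cast
  ring

end Cfsg.Agent.Lib.ReeNine68
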