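import Cfsg.Agent.Lib.Characters.Complete
import Cfsg.Agent.Lib.Characters.Linear

/-!
# Functions on a finite commutative group with integral inner products

For such an `f` with `f 1 = D` the sum of `‖f a‖²` over `a ≠ 1` is at least `ρ (n - ρ)`, `ρ` the
residue of `D`; below `n - 1` the function vanishes off `1` and `n ∣ D`.

Owner: helper68.
-/

set_option autoImplicit false
set_option linter.style.haveILetI false
set_option linter.unusedSectionVars false

universe u

namespace Cfsg.Agent.Lib.ReeNine68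

open Cfsg.Agent.Lib.Characters.Basic Cfsg.Agent.Lib.Characters.Complete
open scoped ComplexConjugate

variable {A : Type u} [Group A] [Fintype A]

/-- All inner products with irreducible characters are integers. -/
def IntFn (f : A → ℂ) : Prop :=
  ∀ χ : Cfsg.IrrCharacter A, ∃ k : ℤ, Cfsg.classInner f (χ : A → ℂ) = k

theorem intFn_of_character {f : A → ℂ} (hf : Cfsg.IsCharacter A f) : IntFn f := fun χ => by
  obtain ⟨k, hk⟩ := exists_classInner_nat hf (isCharacter_irr χ)
  exact ⟨k, by rw [hk]; simp⟩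

variable (hA : ∀ a b : A, a * b = b * a) {f : A → ℂ} (hf : IntFn f)

include hA hf

/-- The coefficients: value at one and the sum of squares. -/
theorem exists_coeff [Fintype (Cfsg.IrrCharacter A)] :
    ∃ k : Cfsg.IrrCharacter A → ℤ, (∀ a, f a = ∑ χ, (k χ : ℂ) * (χ : A → ℂ) a) ∧
      f 1 = ((∑ χ, k χ : ℤ) : ℂ) ∧
      ∑ a, Complex.normSq (f a) = (Nat.card A : ℝ) * ((∑ χ, k χ * k χ : ℤ) : ℝ) := by
  choose k hk using hf
  have hcl : Cfsg.IsClassFunction A f := fun g h => by rw [hA h g, mul_inv_cancel_right]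
  have hsum : ∀ a, f a = ∑ χ, (k χ : ℂ) * (χ : A → ℂ) a := fun a => by
    have := congrFun (classFunction_eq_sum hcl) a
    simpa [hk] using this
  refine ⟨k, hsum, ?_, ?_⟩
  · rw [hsum 1]
    push_cast
    exact Finset.sum_congr rfl fun χ _ => by rw [Characters.Linear.degree_eq_one_of_comm hA, mul_one]
  · have e : Cfsg.classInner f f = ((∑ χ, k χ * k χ : ℤ) : ℂ) := by
      conv_lhs => arg 1; rw [classFunction_eq_sum hcl]
      rw [classInner_sum_left]
      push_cast
      refine Finset.sum_congr rfl fun χ _ => ?_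
      rw [Induced.Basic.classInner_smul_left, hk, ← Induced.Basic.classInner_conj_symm, hk, map_intCast]
    rw [Cfsg.classInner, inv_mul_eq_iff_eq_mul₀ (Nat.cast_ne_zero.2 Nat.card_pos.ne')] at e
    apply Complex.ofReal_injective
    push_cast
    push_cast at e
    rw [← e]
    exact Finset.sum_congr rfl fun a _ => (Complex.mul_conj (f a)).symm

/-- The sum away from one is at least `ρ (n - ρ)`. -/
theorem residue_le {D : ℤ} (hD : f 1 = D) [DecidableEq A] :
    (((D % (Nat.card A : ℤ)) * ((Nat.card A : ℤ) - D % (Nat.card A : ℤ)) : ℤ) : ℝ) ≤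
      ∑ a ∈ Finset.univ.erase (1 : A), Complex.normSq (f a) := by
  letI := Fintype.ofFinite (Cfsg.IrrCharacter A)
  obtain ⟨k, -, h1, h2⟩ := exists_coeff hA hf
  have hsD : ∑ χ, k χ = D := by exact_mod_cast (h1.symm.trans hD : _)
  set n : ℤ := (Nat.card A : ℤ) with hn
  set e := D / n
  set ρ := D % n
  have hcard : (Fintype.card (Cfsg.IrrCharacter A) : ℤ) = n := by
    letI : CommGroup A := { (inferInstance : Group A) with mul_comm := hA }
    rw [hn, ← Nat.card_eq_fintype_card, card_irr_eq_card_conjClasses]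
    exact_mod_cast Nat.card_congr (Equiv.ofBijective ConjClasses.mk
      ⟨ConjClasses.mk_injective, ConjClasses.mk_surjective⟩).symm
  have hx : ∑ χ, (k χ - e) = ρ := by
    rw [Finset.sum_sub_distrib, hsD, Finset.sum_const, nsmul_eq_mul, Finset.card_univ, hcard]
    have := Int.emod_add_ediv_mul D n
    linarith
  have hle : ρ ≤ ∑ χ, (k χ - e) ^ 2 := hx ▸ Finset.sum_le_sum fun χ _ => Int.le_self_sq _
  have hexp : n * (∑ χ, (k χ - e) ^ 2) = n * (∑ χ, k χ * k χ) - D * D + ρ * ρ := by
    have : ∑ χ, (k χ - e) ^ 2 = (∑ χ, k χ * k χ) - 2 * e * D + n * e * e := by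
      rw [Finset.sum_congr rfl fun χ _ => show (k χ - e) ^ 2 = k χ * k χ - 2 * e * k χ + e * e by ring,
        Finset.sum_add_distrib, Finset.sum_sub_distrib, ← Finset.mul_sum, hsD, Finset.sum_const,
        nsmul_eq_mul, Finset.card_univ, hcard]
      ring
    rw [this]
    have := Int.emod_add_ediv_mul D n
    linear_combination (ρ - D + n * e + 2 * D) * 0 + (D - n * e + ρ) * (-this)
  have hn0 : 0 ≤ n := Int.natCast_nonneg _
  have hkey : ρ * (n - ρ) ≤ n * (∑ χ, k χ * k χ) - D * D := by
    nlinarith [mul_le_mul_of_nonneg_left hle hn0]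
  have hS : ∑ a ∈ Finset.univ.erase (1 : A), Complex.normSq (f a) =
      ((n * (∑ χ, k χ * k χ) - D * D : ℤ) : ℝ) := by
    have h3 := Finset.add_sum_erase Finset.univ (fun a => Complex.normSq (f a)) (Finset.mem_univ (1 : A))
    rw [h2, hD, Complex.normSq_intCast] at h3
    push_cast [hn]
    push_cast at h3
    linarith
  rw [hS]
  exact_mod_cast hkey

/-- Below `n - 1` the function vanishes. -/
theorem eq_zero_of_lt {D : ℤ} (hD : f 1 = D) [DecidableEq A]
    (hlt : ∑ a ∈ Finset.univ.erase (1 : A), Complex.normSq (f a) < (Nat.card A : ℝ) - 1) :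
    (Nat.card A : ℤ) ∣ D ∧ ∀ a : A, a ≠ 1 → f a = 0 := by
  have hpos : 0 < Nat.card A := Nat.card_pos
  set n : ℤ := (Nat.card A : ℤ) with hn
  have h1 := residue_le hA hf hD
  have hdvd : n ∣ D := by
    by_contra hnd
    set ρ := D % n
    have hρ1 : 1 ≤ ρ := by
      have := Int.emod_nonneg D (show n ≠ 0 by omega)
      have : ρ ≠ 0 := fun e => hnd (Int.dvd_of_emod_eq_zero e)
      omega
    have hρ2 : ρ < n := Int.emod_lt_of_pos D (by omega)
    have hge : n - 1 ≤ ρ * (n - ρ) := by nlinarith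
    have : ((n - 1 : ℤ) : ℝ) ≤ ((ρ * (n - ρ) : ℤ) : ℝ) := by exact_mod_cast hge
    have hc : ((n - 1 : ℤ) : ℝ) = (Nat.card A : ℝ) - 1 := by rw [hn]; push_cast; ring
    linarith
  refine ⟨hdvd, ?_⟩
  -- all coefficients are equal
  letI := Fintype.ofFinite (Cfsg.IrrCharacter A)
  obtain ⟨k, hsum, hk1, hk2⟩ := exists_coeff hA hf
  have hsD : ∑ χ, k χ = D := by exact_mod_cast (hk1.symm.trans hD : _)
  obtain ⟨e, he⟩ := hdvd
  have hcard : (Fintype.card (Cfsg.IrrCharacter A) : ℤ) = n := by
    letI : CommGroup A := { (inferInstance : Group A) with mul_comm := hA }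
    rw [hn, ← Nat.card_eq_fintype_card, card_irr_eq_card_conjClasses]
    exact_mod_cast Nat.card_congr (Equiv.ofBijective ConjClasses.mk
      ⟨ConjClasses.mk_injective, ConjClasses.mk_surjective⟩).symm
  have hall : ∀ χ, k χ = e := by
    by_contra hne
    push Not at hne
    obtain ⟨χ₀, hχ₀⟩ := hne
    have hpos1 : 1 ≤ ∑ χ, (k χ - e) ^ 2 := by
      refine le_trans ?_ (Finset.single_le_sum (fun χ _ => sq_nonneg (k χ - e)) (Finset.mem_univ χ₀))
      have : k χ₀ - e ≠ 0 := sub_ne_zero.2 hχ₀
      rcases lt_trichotomy (k χ₀ - e) 0 with h | h | h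
      · nlinarith
      · exact absurd h this
      · nlinarith
    have hexp : ∑ χ, (k χ - e) ^ 2 = (∑ χ, k χ * k χ) - 2 * e * D + n * e * e := by
      rw [Finset.sum_congr rfl fun χ _ => show (k χ - e) ^ 2 = k χ * k χ - 2 * e * k χ + e * e by ring,
        Finset.sum_add_distrib, Finset.sum_sub_distrib, ← Finset.mul_sum, hsD, Finset.sum_const,
        nsmul_eq_mul, Finset.card_univ, hcard]
      ring
    have hge : n ≤ n * (∑ χ, k χ * k χ) - D * D := by
      have h2 := mul_le_mul_of_nonneg_left hpos1 (show 0 ≤ n by omega)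
      rw [hexp] at h2
      rw [he]
      rw [he] at h2
      linear_combination h2
    have hS : ∑ a ∈ Finset.univ.erase (1 : A), Complex.normSq (f a) =
        ((n * (∑ χ, k χ * k χ) - D * D : ℤ) : ℝ) := by
      have h3 := Finset.add_sum_erase Finset.univ (fun a => Complex.normSq (f a)) (Finset.mem_univ (1 : A))
      rw [hk2, hD, Complex.normSq_intCast] at h3
      push_cast [hn]
      push_cast at h3
      linarith
    rw [hS] at hlt
    have : ((n : ℤ) : ℝ) ≤ ((n * (∑ χ, k χ * k χ) - D * D : ℤ) : ℝ) := by exact_mod_cast hge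
    have : ((n : ℤ) : ℝ) = (Nat.card A : ℝ) := by rw [hn]; push_cast; ring
    linarith
  intro a ha
  rw [hsum a]
  simp only [hall, ← Finset.mul_sum]
  refine mul_eq_zero_of_right _ ?_
  have := sum_degree_mul_apply (G := A) a
  rw [if_neg ha] at this
  rw [← this]
  exact Finset.sum_congr rfl fun χ _ => by rw [Characters.Linear.degree_eq_one_of_comm hA, one_mul]

end Cfsg.Agent.Lib.ReeNine68
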