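import Cfsg.Agent.Lib.ReeNine68.Reg
import Cfsg.Agent.Lib.PGroups.Frattini
import Mathlib.GroupTheory.Nilpotent
import Mathlib.GroupTheory.GroupAction.Quotient

/-!
# Ree order: the layers of a Sylow 3-subgroup

If `|P : P'| < q²` then `|P'| = q²`, `P' = U × [P', P]` is elementary abelian and `[P', P]` is central,
inverted by `t`.

Owner: helper68.
-/

set_option autoImplicit false
set_option linter.style.haveILetI false
set_option linter.unusedSectionVars false

namespace Cfsg.Agent.Lib.ReeNine68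

open Subgroup Cfsg.Agent.Lib.AllAbelian80.Ree
open Cfsg.Agent.Lib.ReeTorus80
open scoped commutatorElement

/-- `d = (3^f - 1)/2` divides `3^j - 1` only for multiples `j` of `f`. -/
theorem dvd_exponent {f d j : ℕ} (hq : 3 ^ f = 2 * d + 1) (hd : 2 ≤ d) (h : d ∣ 3 ^ j - 1) : f ∣ j := by
  have hf : 0 < f := Nat.pos_of_ne_zero fun e => by rw [e, pow_zero] at hq; omega
  rcases Nat.eq_zero_or_pos (j % f) with h0 | hpos
  · exact Nat.dvd_of_mod_eq_zero h0
  exfalso
  have hlt := Nat.mod_lt j hf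
  have h1 : 3 ^ j ≡ 1 [MOD d] := ((Nat.modEq_iff_dvd' (Nat.one_le_pow _ _ (by norm_num))).2 h).symm
  have h2 : 3 ^ f ≡ 1 [MOD d] :=
    ((Nat.modEq_iff_dvd' (Nat.one_le_pow _ _ (by norm_num))).2 ⟨2, by omega⟩).symm
  have h3 : 3 ^ j ≡ 3 ^ (j % f) [MOD d] := by
    conv_lhs => rw [← Nat.mod_add_div j f, pow_add, pow_mul]
    simpa using Nat.ModEq.mul_left (3 ^ (j % f)) (h2.pow (j / f))
  have h4 : d ∣ 3 ^ (j % f) - 1 :=
    (Nat.modEq_iff_dvd' (Nat.one_le_pow _ _ (by norm_num))).1 (h3.symm.trans h1).symm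
  have h5 : 3 * 3 ^ (j % f) ≤ 3 ^ f := by
    rw [← pow_succ']; exact Nat.pow_le_pow_right (by norm_num) (by omega)
  have h6 : 3 ≤ 3 ^ (j % f) := Nat.le_self_pow hpos.ne' 3
  have := Nat.le_of_dvd (by omega) h4
  omega

/-- A subgroup of a nilpotent group contained in its commutator with the group is trivial. -/
theorem eq_bot_of_le_commutator {G : Type*} [Group G] {P H : Subgroup G} [Group.IsNilpotent ↥P]
    (hHP : H ≤ P) (hH : H ≤ ⁅H, P⁆) : H = ⊥ := by
  have key : ∀ n, H ≤ P.lowerCentralSeries n := by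
    intro n
    induction n with
    | zero => exact hHP
    | succ n ih =>
      rw [Subgroup.lowerCentralSeries_succ]
      exact hH.trans (commutator_mono ih le_rfl)
  obtain ⟨n, hn⟩ := P.isNilpotent_iff_lowerCentralSeries.1 inferInstance
  exact le_bot_iff.1 (hn ▸ key n)

variable {G : Type*} [Group G] [Fintype G] {q d : ℕ} {t s : G} {E U T P N M Y W : Subgroup G}
  (h : Setting G q d t s E U T P N M Y W)

include h

theorem t_conj_A {a : G} (ha : a ∈ zpowers t ⊔ T) (x : G) :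
    a * (t * x * t⁻¹) * a⁻¹ = t * (a * x * a⁻¹) * t⁻¹ := by
  have e : a * t = t * a := h.A_comm ha (mem_sup_left (mem_zpowers t))
  rw [show a * (t * x * t⁻¹) * a⁻¹ = (a * t) * x * (a * t)⁻¹ by group, e]
  group

theorem isPGroup_P : IsPGroup 3 ↥P := by
  obtain ⟨f, hf⟩ := h.ree.pow3
  exact IsPGroup.of_card (n := f * 3) (by rw [h.bn.cardP, hf, pow_mul])

theorem conj_comm {g : G} (hg : g ∈ N) {H : Subgroup G} (hH : ∀ x ∈ H, g * x * g⁻¹ ∈ H) {x : G}
    (hx : x ∈ ⁅H, P⁆) : g * x * g⁻¹ ∈ ⁅H, P⁆ := by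
  have hle : ⁅H, P⁆ ≤ (⁅H, P⁆).comap (MulAut.conj g).toMonoidHom := by
    rw [commutator_le]
    intro a ha b hb
    show g * ⁅a, b⁆ * g⁻¹ ∈ ⁅H, P⁆
    rw [show g * ⁅a, b⁆ * g⁻¹ = ⁅g * a * g⁻¹, g * b * g⁻¹⁆ by simp only [commutatorElement_def]; group]
    exact commutator_mem_commutator (hH a ha) (h.bn.norm g hg b hb)
  exact hle hx

/-- A subgroup invariant under `T` has order a power of `q`. -/
theorem card_cases {K : Subgroup G} (hKP : K ≤ P) (hK : ∀ a ∈ T, ∀ x ∈ K, a * x * a⁻¹ ∈ K) :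
    Nat.card K = 1 ∨ Nat.card K = q ∨ Nat.card K = q ^ 2 ∨ Nat.card K = q ^ 3 := by
  classical
  obtain ⟨f, hf⟩ := h.ree.pow3
  obtain ⟨j, hj⟩ := IsPGroup.iff_card.1 ((isPGroup_P h).to_le hKP)
  let S := {x : G // x ∈ K ∧ x ≠ 1}
  letI : MulAction ↥T S :=
    { smul := fun a x => ⟨(a : G) * x.1 * (a : G)⁻¹, hK a a.2 _ x.2.1,
        fun e => x.2.2 (conj_eq_one_iff.1 e)⟩
      one_smul := fun x => Subtype.ext (by show (1 : G) * x.1 * (1 : G)⁻¹ = x.1; group)
      mul_smul := fun a b x => Subtype.ext (by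
        show ((a : G) * b) * x.1 * ((a : G) * b)⁻¹ = a * (b * x.1 * (b : G)⁻¹) * (a : G)⁻¹; group) }
  have hst : ∀ x : S, MulAction.stabilizer ↥T x = ⊥ := fun x => eq_bot_iff.2 fun a ha => by
    have e : (a : G) * x.1 * (a : G)⁻¹ = x.1 := congrArg Subtype.val (MulAction.mem_stabilizer_iff.1 ha)
    refine mem_bot.2 (Subtype.ext (by_contra fun ha1 => x.2.2 ?_))
    exact h.bn.semireg a a.2 ha1 x.1 (hKP x.2.1) (mul_inv_eq_iff_eq_mul.1 e)
  have hdvd : d ∣ Nat.card S := by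
    rw [Nat.card_congr (MulAction.selfEquivOrbitsQuotientProd hst), Nat.card_prod, h.ree.cardT]
    exact dvd_mul_left _ _
  have hS : Nat.card S + 1 = Nat.card K := by
    haveI : Fintype K := Fintype.ofFinite _
    rw [Nat.card_congr (show S ≃ {x : ↥K // x ≠ 1} from
      { toFun := fun x => ⟨⟨x.1, x.2.1⟩, fun e => x.2.2 (congrArg Subtype.val e)⟩
        invFun := fun x => ⟨x.1, x.1.2, fun e => x.2 (Subtype.ext e)⟩
        left_inv := fun _ => rfl
        right_inv := fun _ => rfl }), Nat.card_eq_fintype_card, Fintype.card_subtype_compl,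
      Fintype.card_subtype_eq, Nat.card_eq_fintype_card, Nat.sub_add_cancel Fintype.card_pos]
  obtain ⟨k, rfl⟩ := dvd_exponent (hf.symm.trans h.q_eq) h.d_big (show d ∣ 3 ^ j - 1 by
    rwa [← hj, ← hS, Nat.add_sub_cancel])
  have hle : 3 ^ (f * k) ≤ q ^ 3 := hj ▸ h.bn.cardP ▸ Nat.le_of_dvd Nat.card_pos (card_dvd_of_le hKP)
  rw [pow_mul, ← hf] at hle hj
  have hk : k ≤ 3 := (Nat.pow_le_pow_iff_right (by have := h.q_eq; have := h.d_big; omega)).1 hle
  rcases k with _ | _ | _ | _ | k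
  · exact Or.inl (by simpa using hj)
  · exact Or.inr (Or.inl (by simpa using hj))
  · exact Or.inr (Or.inr (Or.inl hj))
  · exact Or.inr (Or.inr (Or.inr hj))
  · omega

/-- An element of `A` other than `1`, `t` fixing a coset of an invariant subgroup fixes only the subgroup. -/
theorem mem_of_fixed_coset {K : Subgroup G} (hKP : K ≤ P) {a : G} (ha : a ∈ zpowers t ⊔ T)
    (h1 : a ≠ 1) (ht : a ≠ t) (hK : ∀ x ∈ K, a * x * a⁻¹ ∈ K) {x : G} (hx : x ∈ P)
    (hfix : a * x * a⁻¹ * x⁻¹ ∈ K) : x ∈ K := by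
  let φ : ↥K → ↥K := fun p => ⟨a * p * a⁻¹ * (p : G)⁻¹, mul_mem (hK p p.2) (inv_mem p.2)⟩
  have hφ : Function.Injective φ := by
    intro p p' e
    have e' : a * (p : G) * a⁻¹ * (p : G)⁻¹ = a * (p' : G) * a⁻¹ * (p' : G)⁻¹ := congrArg Subtype.val e
    have hc : a * ((p' : G)⁻¹ * p) = (p' : G)⁻¹ * p * a := by
      calc a * ((p' : G)⁻¹ * p) = (a * (p' : G)⁻¹ * a⁻¹) * (a * (p : G) * a⁻¹ * (p : G)⁻¹) * p * a := by group
        _ = _ := by rw [e']; group
    exact Subtype.ext (inv_mul_eq_one.1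
      (h.semiregA ha h1 ht (hKP (mul_mem (inv_mem p'.2) p.2)) hc)).symm
  obtain ⟨p, hp⟩ := (Finite.injective_iff_surjective.1 hφ) ⟨_, hfix⟩
  have e : a * (p : G) * a⁻¹ * (p : G)⁻¹ = a * x * a⁻¹ * x⁻¹ := congrArg Subtype.val hp
  have hc : a * ((p : G)⁻¹ * x) = (p : G)⁻¹ * x * a := by
    calc a * ((p : G)⁻¹ * x) = (a * (p : G)⁻¹ * a⁻¹) * (a * x * a⁻¹ * x⁻¹) * x * a := by group
      _ = _ := by rw [← e]; group
  have := h.semiregA ha h1 ht (mul_mem (inv_mem (hKP p.2)) hx) hc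
  rw [inv_mul_eq_one] at this
  exact this ▸ p.2

omit h

/-- The layers. -/
structure Layers (h : Setting G q d t s E U T P N M Y W) (D K : Subgroup G) : Prop where
  defD : D = ⁅P, P⁆
  defK : K = ⁅D, P⁆
  DP : D ≤ P
  KD : K ≤ D
  cardD : Nat.card D = q ^ 2
  cardK : Nat.card K = q
  UD : U ≤ D
  UK : ∀ u ∈ U, u ∈ K → u = 1
  split : ∀ p ∈ D, ∃ u ∈ U, ∃ k ∈ K, p = u * k
  central : ∀ k ∈ K, ∀ x ∈ P, k * x = x * k
  commD : ∀ a ∈ D, ∀ b ∈ D, a * b = b * a
  cube : ∀ a ∈ D, a ^ 3 = 1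
  inv : ∀ k ∈ K, t * k * t⁻¹ = k⁻¹
  inverts : ∀ x ∈ P, t * x * t⁻¹ * x ∈ D
  normD : ∀ g ∈ N, ∀ x ∈ D, g * x * g⁻¹ ∈ D
  normK : ∀ g ∈ N, ∀ x ∈ K, g * x * g⁻¹ ∈ K

include h

/-- The layers exist. -/
theorem exists_layers (hidx : (commutator ↥P).index < q ^ 2) : ∃ D K, Layers h D K := by
  classical
  haveI : Fact (Nat.Prime 3) := ⟨Nat.prime_three⟩
  haveI : Group.IsNilpotent ↥P := (isPGroup_P h).isNilpotent
  set D := ⁅P, P⁆ with hD
  set K := ⁅D, P⁆ with hK
  have hq27 : 3 ≤ q := by have := h.q_eq; have := h.d_big; omega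
  have hDP : D ≤ P := P.commutator_le_self
  have hnD : ∀ g ∈ N, ∀ x ∈ D, g * x * g⁻¹ ∈ D := fun g hg x hx => conj_comm h hg (h.bn.norm g hg) hx
  have hnK : ∀ g ∈ N, ∀ x ∈ K, g * x * g⁻¹ ∈ K := fun g hg x hx => conj_comm h hg (hnD g hg) hx
  have hKD : K ≤ D := by
    rw [hK, commutator_le]
    intro a ha b hb
    rw [commutatorElement_def, mul_assoc, mul_assoc, ← mul_assoc b]
    exact mul_mem ha (hnD b (h.P_le_N hb) _ (inv_mem ha))
  have hTN : T ≤ N := h.bn.TM.trans h.bn.MN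
  have hcD : Nat.card D = q ^ 2 := by
    have h1 : Nat.card (commutator ↥P) * (commutator ↥P).index = q ^ 3 := by
      rw [card_mul_index, h.bn.cardP]
    have h2 : Nat.card D = Nat.card (commutator ↥P) := by
      rw [hD, ← map_subtype_commutator, card_map_of_injective P.subtype_injective]
    rw [← h2] at h1
    rcases card_cases h hDP (fun a ha => hnD a (hTN ha)) with e | e | e | e
    · rw [e, one_mul] at h1
      rw [h1] at hidx
      exact absurd ((Nat.pow_lt_pow_iff_right (by omega)).1 hidx) (by omega)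
    · rw [e] at h1
      have : (commutator ↥P).index = q ^ 2 := Nat.eq_of_mul_eq_mul_left (by omega) (h1.trans (by ring))
      omega
    · exact e
    · exfalso
      have hPD : P = D := (eq_of_le_of_card_ge hDP (by rw [h.bn.cardP, e])).symm
      have := eq_bot_of_le_commutator le_rfl (hPD.trans hD).le
      have hc := h.bn.cardP
      rw [this, card_bot] at hc
      have := Nat.one_lt_pow (three_ne_zero) (show 1 < q by omega)
      omega
  have hUD : U ≤ D := by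
    have hR : ∀ a ∈ T, ∀ x ∈ U ⊓ D, a * x * a⁻¹ ∈ U ⊓ D := fun a ha x hx =>
      mem_inf.2 ⟨h.ree.norm a ha x (mem_inf.1 hx).1, hnD a (hTN ha) x (mem_inf.1 hx).2⟩
    have hle : Nat.card (U ⊓ D : Subgroup G) ≤ q :=
      h.ree.cardU ▸ Nat.le_of_dvd Nat.card_pos (card_dvd_of_le inf_le_left)
    rcases card_cases h (inf_le_left.trans h.UP) hR with e | e | e | e
    · exfalso
      let f : ↥U × ↥D → ↥P := fun x => ⟨x.1 * x.2, mul_mem (h.UP x.1.2) (hDP x.2.2)⟩
      have hf : Function.Injective f := by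
        rintro ⟨u, p⟩ ⟨u', p'⟩ he
        have he' : (u : G) * p = u' * p' := congrArg Subtype.val he
        have hmem : (u' : G)⁻¹ * u ∈ U ⊓ D := mem_inf.2 ⟨mul_mem (inv_mem u'.2) u.2, by
          rw [show (u' : G)⁻¹ * u = (u' : G)⁻¹ * (u * p) * (p : G)⁻¹ by group, he', inv_mul_cancel_left]
          exact mul_mem p'.2 (inv_mem p.2)⟩
        rw [Subgroup.card_eq_one.1 e, mem_bot, inv_mul_eq_one] at hmem
        obtain rfl := Subtype.ext hmem.symm (a1 := u) (a2 := u')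
        exact Prod.ext rfl (Subtype.ext (mul_left_cancel he'))
      have hsurj := ((Nat.bijective_iff_injective_and_card f).2 ⟨hf, by
        rw [Nat.card_prod, h.ree.cardU, hcD, h.bn.cardP]; ring⟩).2
      -- then `P = U`
      have htop : (U.subgroupOf P) ⊔ (commutator ↥P) = ⊤ := eq_top_iff.2 fun x _ => by
        obtain ⟨⟨u, p⟩, he⟩ := hsurj x
        rw [← he, show f (u, p) = (⟨u, h.UP u.2⟩ : ↥P) * ⟨p, hDP p.2⟩ from Subtype.ext rfl]
        refine mul_mem_sup (mem_subgroupOf.2 u.2) ?_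
        have hp : (p : G) ∈ (commutator ↥P).map P.subtype := by rw [map_subtype_commutator]; exact p.2
        obtain ⟨z, hz, hze⟩ := hp
        exact (show (⟨p, hDP p.2⟩ : ↥P) = z from Subtype.ext hze.symm) ▸ hz
      have htopU : U.subgroupOf P = ⊤ := frattini_nongenerating
        (eq_top_iff.2 (htop.ge.trans (sup_le_sup_left (PGroups.commutator_le_frattini (isPGroup_P h)) _)))
      have := congrArg (fun H : Subgroup ↥P => Nat.card H) htopU
      simp only [Nat.card_congr (subgroupOfEquivOfLe h.UP).toEquiv, h.ree.cardU, Subgroup.card_top,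
        h.bn.cardP] at this
      nlinarith [Nat.mul_le_mul hq27 hq27]
    · exact fun u hu => ((eq_of_le_of_card_ge inf_le_left (by rw [e, h.ree.cardU])).symm.le hu :
        u ∈ U ⊓ D).2
    · exfalso; rw [e] at hle; nlinarith
    · exfalso; rw [e] at hle; nlinarith [Nat.mul_le_mul hq27 hq27]
  have hodd : Odd (Nat.card ↥P) := by
    rw [h.bn.cardP]
    exact (Nat.odd_iff.2 (by have := h.q_eq; omega)).pow
  have htt := h.ree.tt
  have htP : ∀ x ∈ P, t * x * t⁻¹ ∈ P := h.bn.norm t h.bn.tN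
  have hinverts : ∀ x ∈ P, t * x * t⁻¹ * x ∈ D := by
    intro x hx
    obtain ⟨c, hc, i, hi, hct, hit, rfl⟩ := RankOne.Involution.exists_decomp hodd htt htP hx
    have hcU : c ∈ U := h.fixU c hc (mul_inv_eq_iff_eq_mul.1 hct).symm
    rw [show t * (c * i) * t⁻¹ * (c * i) = (t * c * t⁻¹) * ((t * i * t⁻¹) * c * i) by group, hct, hit]
    exact mul_mem (hUD hcU) (by simpa using hnD i⁻¹ (inv_mem (h.P_le_N hi)) c (hUD hcU))
  -- `K`
  have hKne : K ≠ D := fun e => by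
    have := eq_bot_of_le_commutator hDP (e.symm.trans hK).le
    rw [this, card_bot] at hcD
    nlinarith
  have hcK : Nat.card K = 1 ∨ Nat.card K = q := by
    rcases card_cases h (hKD.trans hDP) (fun a ha => hnK a (hTN ha)) with e | e | e | e
    · exact Or.inl e
    · exact Or.inr e
    · exact absurd (eq_of_le_of_card_ge hKD (by rw [e, hcD])) hKne
    · exfalso
      have := Nat.le_of_dvd Nat.card_pos (card_dvd_of_le hKD)
      rw [e, hcD] at this
      exact absurd ((Nat.pow_le_pow_iff_right (by omega)).1 this) (by norm_num)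
  -- modulo `K` the involution centralises `D`
  have hfixD : ∀ p ∈ D, t * p * t⁻¹ * p⁻¹ ∈ K := by
    have hcen : ∀ p ∈ D, ∀ x ∈ P, ⁅p, x⁆ ∈ K := fun p hp x hx => commutator_mem_commutator hp hx
    let D₀ : Subgroup G :=
      { carrier := {p | p ∈ D ∧ t * p * t⁻¹ * p⁻¹ ∈ K}
        one_mem' := ⟨one_mem D, by simp⟩
        mul_mem' := fun {a b} ha hb => ⟨mul_mem ha.1 hb.1, by
          rw [show t * (a * b) * t⁻¹ * (a * b)⁻¹ =
            (t * a * t⁻¹) * (t * b * t⁻¹ * b⁻¹) * (t * a * t⁻¹)⁻¹ * (t * a * t⁻¹ * a⁻¹) by group]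
          exact mul_mem (hnK _ (h.P_le_N (htP a (hDP ha.1))) _ hb.2) ha.2⟩
        inv_mem' := fun {a} ha => ⟨inv_mem ha.1, by
          rw [show t * a⁻¹ * t⁻¹ * a⁻¹⁻¹ = a⁻¹ * (a * (t * a * t⁻¹)⁻¹) * a⁻¹⁻¹ by group]
          refine hnK _ (h.P_le_N (hDP (inv_mem ha.1))) _ ?_
          rw [show a * (t * a * t⁻¹)⁻¹ = (t * a * t⁻¹ * a⁻¹)⁻¹ by group]
          exact inv_mem ha.2⟩ }
    suffices D ≤ D₀ from fun p hp => (this hp).2
    intro p hp
    refine (show ⁅P, P⁆ ≤ D₀ from commutator_le.2 fun x hx y hy => ?_) hp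
    refine ⟨commutator_mem_commutator hx hy, ?_⟩
    -- modulo `K`: `⁅a x⁻¹, b y⁻¹⁆ = ⁅x, y⁆` for `a, b ∈ D`
    haveI : ((K.subgroupOf P)).Normal := ⟨fun n hn g => mem_subgroupOf.2
      (hnK g (h.P_le_N g.2) n (mem_subgroupOf.1 hn))⟩
    let π := QuotientGroup.mk' (K.subgroupOf P)
    have hπ : ∀ p : ↥P, π p = 1 ↔ (p : G) ∈ K := fun p => by
      rw [QuotientGroup.mk'_apply, QuotientGroup.eq_one_iff, mem_subgroupOf]
    let X : ↥P := ⟨x, hx⟩
    let Z : ↥P := ⟨y, hy⟩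
    have hcent : ∀ p : ↥P, (p : G) ∈ D → ∀ z : ↥P, Commute (π p) (π z) := fun p hp z => by
      refine commutatorElement_eq_one_iff_mul_comm.1 ?_
      rw [← map_commutatorElement, hπ]
      exact hcen p hp z z.2
    have hab : ∀ a b a' b' : ↥P, (a : G) ∈ D → (b : G) ∈ D →
        π ⁅a * a', b * b'⁆ = π ⁅a', b'⁆ := by
      intro a b a' b' ha hb
      rw [map_commutatorElement, map_commutatorElement, map_mul, map_mul]
      have e1 := hcent a ha
      have e2 := hcent b hb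
      obtain ⟨A', hA'⟩ : ∃ z, π a = z := ⟨_, rfl⟩
      obtain ⟨B', hB'⟩ : ∃ z, π b = z := ⟨_, rfl⟩
      have hA : ∀ z : ↥P ⧸ K.subgroupOf P, Commute A' z := fun z => by
        obtain ⟨z, rfl⟩ := QuotientGroup.mk'_surjective _ z; exact hA' ▸ e1 z
      have hB : ∀ z : ↥P ⧸ K.subgroupOf P, Commute B' z := fun z => by
        obtain ⟨z, rfl⟩ := QuotientGroup.mk'_surjective _ z; exact hB' ▸ e2 z
      rw [hA', hB', commutatorElement_def, commutatorElement_def]
      calc A' * π a' * (B' * π b') * (A' * π a')⁻¹ * (B' * π b')⁻¹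
          = (A' * π a') * B' * π b' * (π a')⁻¹ * (A'⁻¹ * (π b')⁻¹) * B'⁻¹ := by group
        _ = (B' * (A' * π a')) * π b' * (π a')⁻¹ * ((π b')⁻¹ * A'⁻¹) * B'⁻¹ := by
            rw [← (hB (A' * π a')).eq, ((hA (π b')⁻¹).inv_left).eq]
        _ = B' * (A' * (π a' * π b' * (π a')⁻¹ * (π b')⁻¹)) * A'⁻¹ * B'⁻¹ := by group
        _ = _ := by
            rw [(hA _).eq, mul_assoc, mul_assoc, (hB _).eq]
            group
    have key : π ⁅(⟨t * x * t⁻¹, htP x hx⟩ : ↥P), ⟨t * y * t⁻¹, htP y hy⟩⁆ = π ⁅X, Z⁆ := by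
      have ex : (⟨t * x * t⁻¹, htP x hx⟩ : ↥P) = ⟨t * x * t⁻¹ * x, hDP (hinverts x hx)⟩ * X⁻¹ :=
        Subtype.ext (by simp [X])
      have ey : (⟨t * y * t⁻¹, htP y hy⟩ : ↥P) = ⟨t * y * t⁻¹ * y, hDP (hinverts y hy)⟩ * Z⁻¹ :=
        Subtype.ext (by simp [Z])
      rw [ex, ey, hab _ _ _ _ (hinverts x hx) (hinverts y hy)]
      have hc := hcent ⁅X, Z⁆ (commutator_mem_commutator hx hy)
      obtain ⟨g, hg⟩ : ∃ g, g = X⁻¹ * Z⁻¹ := ⟨_, rfl⟩
      rw [show ⁅X⁻¹, Z⁻¹⁆ = g * ⁅X, Z⁆ * g⁻¹ by rw [hg]; simp only [commutatorElement_def]; group,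
        map_mul, map_mul, map_inv, (hc g).symm.eq, mul_inv_cancel_right]
    have e := (hπ _).1 (show π (⁅(⟨t * x * t⁻¹, htP x hx⟩ : ↥P), ⟨t * y * t⁻¹, htP y hy⟩⁆ * ⁅X, Z⁆⁻¹) = 1 by
      rw [map_mul, map_inv, key, mul_inv_cancel])
    simp only [commutatorElement_def, Subgroup.coe_mul, Subgroup.coe_inv, X, Z] at e ⊢
    convert e using 1
    group
  -- `|K| = q`
  have hUK : ∀ u ∈ U, u ∈ K → u = 1 := by
    by_contra hne
    push Not at hne
    obtain ⟨u, hu, huK, hu1⟩ := hne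
    have hUleK : U ≤ K := by
      have hR : ∀ a ∈ T, ∀ x ∈ U ⊓ K, a * x * a⁻¹ ∈ U ⊓ K := fun a ha x hx =>
        ⟨h.ree.norm a ha x hx.1, hnK a (hTN ha) x hx.2⟩
      intro w hw
      rcases card_cases h (inf_le_left.trans h.UP) hR with e | e | e | e
      · exact absurd (mem_bot.1 (Subgroup.card_eq_one.1 e ▸ (⟨hu, huK⟩ : u ∈ U ⊓ K))) hu1
      all_goals
        exact ((eq_of_le_of_card_ge inf_le_left (by
          rw [h.ree.cardU]; nlinarith [Nat.mul_le_mul hq27 hq27, e])).symm.le hw : w ∈ U ⊓ K).2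
    -- `t` centralises `D`
    rcases hcK with e | e
    · rw [Subgroup.card_eq_one.1 e, mem_bot] at huK; exact hu1 huK
    have hKU : K ≤ U := (eq_of_le_of_card_ge hUleK (by rw [e, h.ree.cardU])).ge
    have hle : D ≤ U := fun p hp => h.fixU p (hDP hp) ?_
    · have := Nat.le_of_dvd Nat.card_pos (card_dvd_of_le hle)
      rw [hcD, h.ree.cardU] at this
      nlinarith
    set k := t * p * t⁻¹ * p⁻¹ with hk
    have hkK : k ∈ K := hfixD p hp
    have htk : t * k * t⁻¹ = k := by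
      rw [← h.ree.comm k (h.ree.UE (hKU hkK)), mul_inv_cancel_right]
    have hkk : k * k = 1 := by
      nth_rw 1 [← htk]
      rw [hk, show t * (t * p * t⁻¹ * p⁻¹) * t⁻¹ * (t * p * t⁻¹ * p⁻¹) =
        (t * t) * p * (t * t)⁻¹ * p⁻¹ by group, htt, inv_one, one_mul, mul_one, mul_inv_cancel]
    have h2 : orderOf k ∣ 2 := orderOf_dvd_of_pow_eq_one (by rw [pow_two]; exact hkk)
    have hk1 : k = 1 := orderOf_eq_one_iff.1 (Nat.eq_one_of_dvd_coprimes
      (Nat.coprime_two_left.2 hodd) h2 (Subgroup.orderOf_dvd_natCard P (hDP (hKD hkK))))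
    rw [hk, mul_inv_eq_one, mul_inv_eq_iff_eq_mul] at hk1
    exact hk1.symm
  have hcK' : Nat.card K = q := by
    refine hcK.resolve_left fun e => ?_
    have hle : D ≤ U := fun p hp => h.fixU p (hDP hp) (by
      have := hfixD p hp
      rw [Subgroup.card_eq_one.1 e, mem_bot, mul_inv_eq_one, mul_inv_eq_iff_eq_mul] at this
      exact this.symm)
    have := Nat.le_of_dvd Nat.card_pos (card_dvd_of_le hle)
    rw [hcD, h.ree.cardU] at this
    nlinarith
  let f : ↥U × ↥K → ↥D := fun x => ⟨x.1 * x.2, mul_mem (hUD x.1.2) (hKD x.2.2)⟩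
  have hf : Function.Injective f := by
    rintro ⟨u, k⟩ ⟨u', k'⟩ he
    have he' : (u : G) * k = u' * k' := congrArg Subtype.val he
    have := hUK _ (mul_mem (inv_mem u'.2) u.2) (by
      rw [show (u' : G)⁻¹ * u = (u' : G)⁻¹ * (u * k) * (k : G)⁻¹ by group, he', inv_mul_cancel_left]
      exact mul_mem k'.2 (inv_mem k.2))
    rw [inv_mul_eq_one] at this
    obtain rfl := Subtype.ext this.symm (a1 := u) (a2 := u')
    exact Prod.ext rfl (Subtype.ext (mul_left_cancel he'))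
  have hsplit : ∀ p ∈ D, ∃ u ∈ U, ∃ k ∈ K, p = u * k := fun p hp => by
    obtain ⟨⟨u, k⟩, he⟩ := ((Nat.bijective_iff_injective_and_card f).2 ⟨hf, by
      rw [Nat.card_prod, h.ree.cardU, hcK', hcD]; ring⟩).2 ⟨p, hp⟩
    exact ⟨u, u.2, k, k.2, (congrArg Subtype.val he).symm⟩
  have hK2 : ⁅K, P⁆ = ⊥ := by
    have hle : ⁅K, P⁆ ≤ K := commutator_le.2 fun a ha b hb => by
      rw [commutatorElement_def, mul_assoc, mul_assoc, ← mul_assoc b]
      exact mul_mem ha (hnK b (h.P_le_N hb) _ (inv_mem ha))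
    have hR : ∀ a ∈ T, ∀ x ∈ ⁅K, P⁆, a * x * a⁻¹ ∈ ⁅K, P⁆ := fun a ha x hx =>
      conj_comm h (hTN ha) (hnK a (hTN ha)) hx
    have hne : ⁅K, P⁆ ≠ K := fun e => by
      have := eq_bot_of_le_commutator (hKD.trans hDP) e.ge
      rw [this, card_bot] at hcK'
      omega
    rcases card_cases h ((hle.trans hKD).trans hDP) hR with e | e | e | e
    · exact Subgroup.card_eq_one.1 e
    all_goals exact absurd (eq_of_le_of_card_ge hle (by
      rw [hcK']; nlinarith [Nat.mul_le_mul hq27 hq27, e])) hne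
  have hcentral : ∀ k ∈ K, ∀ x ∈ P, k * x = x * k := fun k hk x hx =>
    commutatorElement_eq_one_iff_mul_comm.1 (mem_bot.1 (hK2 ▸ commutator_mem_commutator hk hx))
  have hcommD : ∀ a ∈ D, ∀ b ∈ D, a * b = b * a := by
    intro a ha b hb
    obtain ⟨u, hu, k, hk, rfl⟩ := hsplit a ha
    obtain ⟨u', hu', k', hk', rfl⟩ := hsplit b hb
    exact (((show Commute u u' from h.ree.commU u hu u' hu').mul_right
      (show Commute u k' from (hcentral k' hk' u (h.UP hu)).symm)).mul_left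
      (show Commute k (u' * k') from hcentral k hk _ (hDP hb))).eq
  -- `K` has exponent three
  have hKcube : ∀ k ∈ K, k ^ 3 = 1 := by
    let R : Subgroup G :=
      { carrier := {k | k ∈ K ∧ k ^ 3 = 1}
        one_mem' := ⟨one_mem K, one_pow 3⟩
        mul_mem' := fun {a b} ha hb => ⟨mul_mem ha.1 hb.1, by
          rw [(show Commute a b from hcentral a ha.1 b (hDP (hKD hb.1))).mul_pow, ha.2, hb.2, one_mul]⟩
        inv_mem' := fun {a} ha => ⟨inv_mem ha.1, by rw [inv_pow, ha.2, inv_one]⟩ }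
    have hR : ∀ a ∈ T, ∀ x ∈ R, a * x * a⁻¹ ∈ R := fun a ha x hx =>
      ⟨hnK a (hTN ha) x hx.1, by rw [conj_pow, hx.2, mul_one, mul_inv_cancel]⟩
    have hRK : R ≤ K := fun x hx => hx.1
    rcases card_cases h (hRK.trans (hKD.trans hDP)) hR with e | e | e | e
    · exfalso
      obtain ⟨⟨k, hk⟩, hk3⟩ := exists_prime_orderOf_dvd_card' (G := ↥K) 3
        (hcK' ▸ h.three_dvd)
      rw [Subgroup.orderOf_mk] at hk3
      have hkR : k ∈ R := ⟨hk, hk3 ▸ pow_orderOf_eq_one k⟩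
      rw [Subgroup.card_eq_one.1 e, mem_bot] at hkR
      rw [hkR, orderOf_one] at hk3
      omega
    all_goals exact fun k hk => ((eq_of_le_of_card_ge hRK (by
      rw [hcK']; nlinarith [Nat.mul_le_mul hq27 hq27, e])).symm.le hk).2
  refine ⟨D, K, ⟨rfl, rfl, hDP, hKD, hcD, hcK', hUD, hUK, hsplit, hcentral, hcommD, fun a ha => ?_,
    fun k hk => ?_, hinverts, hnD, hnK⟩⟩
  · obtain ⟨u, hu, k, hk, rfl⟩ := hsplit a ha
    rw [(show Commute u k from (hcentral k hk u (h.UP hu)).symm).mul_pow, h.ree.cube u hu,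
      hKcube k hk, one_mul]
  · refine AllAbelian80.inverts_of_fpf (hodd.of_dvd_nat (card_dvd_of_le (hKD.trans hDP))) htt
      (hnK t h.bn.tN) (fun x hx e => hUK x (h.fixU x (hDP (hKD hx)) (mul_inv_eq_iff_eq_mul.1 e).symm) hx) hk

end Cfsg.Agent.Lib.ReeNine68
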