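import Cfsg.Agent.Lib.ReeNine68.Layers

/-!
# Ree order: the cyclic subgroups of order nine are not TI

Owner: helper68.
-/

set_option autoImplicit false
set_option linter.style.haveILetI false
set_option linter.unusedSectionVars false

namespace Cfsg.Agent.Lib.ReeNine68

open Subgroup Cfsg.Agent.Lib.AllAbelian80.Ree
open Cfsg.Agent.Lib.ReeTorus80
open scoped commutatorElement

variable {G : Type*} [Group G] [Fintype G] {q d : ℕ} {t s : G} {E U T P N M Y W : Subgroup G}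
  {h : Setting G q d t s E U T P N M Y W} {D K : Subgroup G} (L : Layers h D K)

include L

/-- A `T`-invariant subgroup strictly between `D` and `P` does not exist. -/
theorem Layers.eq_P {C : Subgroup G} (hDC : D ≤ C) (hCP : C ≤ P)
    (hC : ∀ a ∈ T, ∀ x ∈ C, a * x * a⁻¹ ∈ C) {x : G} (hx : x ∈ C) (hxD : x ∉ D) : C = P := by
  have hq3 : 3 ≤ q := by have := h.q_eq; have := h.d_big; omega
  have hlt : q ^ 2 < Nat.card C := by
    rw [← L.cardD]
    refine lt_of_le_of_ne (Nat.le_of_dvd Nat.card_pos (card_dvd_of_le hDC)) fun e => hxD ?_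
    exact (eq_of_le_of_card_ge hDC e.ge) ▸ hx
  refine eq_of_le_of_card_ge hCP ?_
  rw [h.bn.cardP]
  rcases card_cases h hCP hC with e | e | e | e
  all_goals rw [e] at hlt ⊢
  · have := Nat.one_le_pow 2 q (by omega); omega
  · have := Nat.le_self_pow two_ne_zero q; omega
  · omega

/-- `P / D` has exponent three. -/
theorem Layers.pow_three {x : G} (hx : x ∈ P) : x ^ 3 ∈ D := by
  classical
  haveI : Fact (Nat.Prime 3) := ⟨Nat.prime_three⟩
  haveI : (D.subgroupOf P).Normal := ⟨fun n hn g => mem_subgroupOf.2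
    (L.normD g (h.P_le_N g.2) n (mem_subgroupOf.1 hn))⟩
  let π := QuotientGroup.mk' (D.subgroupOf P)
  have hπ : ∀ p : ↥P, π p = 1 ↔ (p : G) ∈ D := fun p => by
    rw [QuotientGroup.mk'_apply, QuotientGroup.eq_one_iff, mem_subgroupOf]
  have hab : ∀ a b : ↥P, π a * π b = π b * π a := fun a b =>
    commutatorElement_eq_one_iff_mul_comm.1 (by
      rw [← map_commutatorElement, hπ, L.defD]; exact commutator_mem_commutator a.2 b.2)
  let C : Subgroup G :=
    { carrier := {x | ∃ hx : x ∈ P, π ⟨x, hx⟩ ^ 3 = 1}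
      one_mem' := ⟨one_mem P, by rw [show (⟨(1 : G), one_mem P⟩ : ↥P) = 1 from rfl, map_one, one_pow]⟩
      mul_mem' := fun {a b} ⟨ha, ha'⟩ ⟨hb, hb'⟩ => ⟨mul_mem ha hb, by
        rw [show (⟨a * b, mul_mem ha hb⟩ : ↥P) = ⟨a, ha⟩ * ⟨b, hb⟩ from rfl, map_mul,
          (show Commute (π ⟨a, ha⟩) (π ⟨b, hb⟩) from hab _ _).mul_pow, ha', hb', one_mul]⟩
      inv_mem' := fun {a} ⟨ha, ha'⟩ => ⟨inv_mem ha, by
        rw [show (⟨a⁻¹, inv_mem ha⟩ : ↥P) = ⟨a, ha⟩⁻¹ from rfl, map_inv, inv_pow, ha', inv_one]⟩ }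
  have hmemC : ∀ x, x ∈ C ↔ x ∈ P ∧ x ^ 3 ∈ D := fun x => by
    refine ⟨fun ⟨hx, hx'⟩ => ⟨hx, ?_⟩, fun ⟨hx, hx'⟩ => ⟨hx, ?_⟩⟩
    · rw [← map_pow, hπ] at hx'; exact hx'
    · rw [← map_pow, hπ]; exact hx'
  have hTN : T ≤ N := h.bn.TM.trans h.bn.MN
  obtain ⟨y, hy⟩ := exists_prime_orderOf_dvd_card' (G := ↥P ⧸ D.subgroupOf P) 3 (by
    rw [← Subgroup.index_eq_card]
    have h1 := (D.subgroupOf P).card_mul_index
    rw [Nat.card_congr (subgroupOfEquivOfLe L.DP).toEquiv, L.cardD, h.bn.cardP] at h1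
    rw [Nat.eq_of_mul_eq_mul_left (pow_pos h.ree.q_pos 2) (h1.trans (by ring : q ^ 3 = q ^ 2 * q))]
    exact h.three_dvd)
  obtain ⟨z, rfl⟩ := QuotientGroup.mk'_surjective _ y
  have hzD : (z : G) ∉ D := fun hz => by
    rw [show QuotientGroup.mk' (D.subgroupOf P) z = 1 from (hπ z).2 hz, orderOf_one] at hy
    omega
  have hCP : C = P := L.eq_P (fun p hp => (hmemC p).2 ⟨L.DP hp, pow_mem hp 3⟩) (fun p hp => ((hmemC p).1 hp).1)
    (fun a ha p hp => by
      obtain ⟨h1, h2⟩ := (hmemC p).1 hp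
      exact (hmemC _).2 ⟨h.bn.norm a (hTN ha) p h1, by rw [conj_pow]; exact L.normD a (hTN ha) _ h2⟩)
    (x := (z : G)) ((hmemC _).2 ⟨z.2, by
      rw [← Subgroup.coe_pow, ← hπ, map_pow]; exact hy ▸ pow_orderOf_eq_one _⟩) hzD
  exact ((hmemC x).1 (hCP.ge hx)).2

/-- The cyclic subgroup of an element of order nine is not TI. -/
theorem Layers.not_ti {x : G} (hx : x ∈ P) (h9 : x ^ 3 ≠ 1)
    (hti : ∀ g : G, g * x ^ 3 = x ^ 3 * g → ∃ i : ℤ, g * x * g⁻¹ = x ^ i) : False := by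
  have hTN : T ≤ N := h.bn.TM.trans h.bn.MN
  set z := x ^ 3 with hz
  have hzD : z ∈ D := L.pow_three hx
  have hxD : x ∉ D := fun hxd => h9 (L.cube x hxd)
  have hcz : ∀ y ∈ P, Commute y z → ∃ j : ℤ, ⁅y, x⁆ = z ^ j := by
    intro y hy hyz
    obtain ⟨i, hi⟩ := hti y hyz.eq
    have hc : ⁅y, x⁆ = x ^ (i - 1) := by
      rw [commutatorElement_def, hi, zpow_sub, zpow_one]
    have hD : x ^ (i - 1) ∈ D := by rw [← hc, L.defD]; exact commutator_mem_commutator hy hx
    rcases (show (i - 1) % 3 = 0 ∨ (i - 1) % 3 = 1 ∨ (i - 1) % 3 = 2 by omega) with e | e | e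
    · refine ⟨(i - 1) / 3, ?_⟩
      rw [hc, hz, ← zpow_natCast x 3, ← zpow_mul]
      congr 1
      push_cast
      omega
    · exfalso
      refine hxD ?_
      rw [show i - 1 = 3 * ((i - 1) / 3) + 1 by omega, zpow_add, zpow_one, zpow_mul] at hD
      exact (mul_mem_cancel_left (zpow_mem (by simpa [← hz] using hzD) _)).1 hD
    · exfalso
      refine hxD ?_
      rw [show i - 1 = 3 * ((i - 1) / 3 + 1) + (-1) by omega, zpow_add, zpow_neg_one, zpow_mul] at hD
      exact inv_mem_iff.1 ((mul_mem_cancel_left (zpow_mem (by simpa [← hz] using hzD) _)).1 hD)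
  by_cases hall : ∀ p ∈ D, p * x = x * p
  · -- then `D` is central
    let C : Subgroup G := P ⊓ centralizer (D : Set G)
    have hC : ∀ a ∈ T, ∀ y ∈ C, a * y * a⁻¹ ∈ C := fun a ha y hy => by
      rw [mem_inf, mem_centralizer_iff] at hy ⊢
      refine ⟨h.bn.norm a (hTN ha) y hy.1, fun p hp => ?_⟩
      have hp' : a⁻¹ * p * a ∈ D := by
        simpa using L.normD a⁻¹ (inv_mem (hTN ha)) p hp
      calc p * (a * y * a⁻¹) = a * ((a⁻¹ * p * a) * y) * a⁻¹ := by group
        _ = a * (y * (a⁻¹ * p * a)) * a⁻¹ := by rw [hy.2 _ hp']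
        _ = _ := by group
    have hCP : C = P := L.eq_P (fun p hp => mem_inf.2 ⟨L.DP hp, mem_centralizer_iff.2 fun p' hp' =>
        L.commD p' hp' p hp⟩) inf_le_left hC (x := x)
      (mem_inf.2 ⟨hx, mem_centralizer_iff.2 fun p hp => hall p hp⟩) hxD
    have hK : K = ⊥ := by
      rw [L.defK, commutator_eq_bot_iff_le_centralizer]
      intro p hp
      refine mem_centralizer_iff.2 fun y hy => ?_
      exact (mem_centralizer_iff.1 (mem_inf.1 (hCP.ge hy)).2 p hp).symm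
    have := L.cardK
    rw [hK, card_bot] at this
    have := h.q_eq; have := h.d_big; omega
  push Not at hall
  obtain ⟨p, hp, hpx⟩ := hall
  have hzK : z ∈ K := by
    obtain ⟨j, hj⟩ := hcz p (L.DP hp) (L.commD p hp z hzD)
    have hne : z ^ j ≠ 1 := fun e => hpx (commutatorElement_eq_one_iff_mul_comm.1 (hj.trans e))
    have hK : z ^ j ∈ K := by rw [← hj, L.defK]; exact commutator_mem_commutator hp hx
    have hz3 : z ^ 3 = 1 := L.cube z hzD
    have hmod : z ^ j = z ^ (j % 3) := by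
      conv_lhs => rw [← Int.emod_add_ediv_mul j 3, zpow_add, mul_comm (j / 3), zpow_mul]
      simp [hz3]
    rw [hmod] at hne hK
    rcases (show j % 3 = 0 ∨ j % 3 = 1 ∨ j % 3 = 2 by omega) with e | e | e
    · exact absurd (by rw [e, zpow_zero]) hne
    · rwa [e, zpow_one] at hK
    · rw [e, zpow_two] at hK
      have := mul_mem hK hK
      rwa [show z * z * (z * z) = z ^ 3 * z by simp only [pow_succ, pow_zero, one_mul, mul_assoc],
        hz3, one_mul] at this
  -- every commutator with `x` lies in `K`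
  let C : Subgroup G :=
    { carrier := {w | w ∈ P ∧ ∀ y ∈ P, ⁅y, w⁆ ∈ K}
      one_mem' := ⟨one_mem P, fun y _ => by simp⟩
      mul_mem' := fun {a b} ha hb => ⟨mul_mem ha.1 hb.1, fun y hy => by
        rw [show ⁅y, a * b⁆ = ⁅y, a⁆ * (a * ⁅y, b⁆ * a⁻¹) by simp only [commutatorElement_def]; group]
        exact mul_mem (ha.2 y hy) (L.normK a (h.P_le_N ha.1) _ (hb.2 y hy))⟩
      inv_mem' := fun {a} ha => ⟨inv_mem ha.1, fun y hy => by
        rw [show ⁅y, a⁻¹⁆ = a⁻¹ * ⁅y, a⁆⁻¹ * a⁻¹⁻¹ by simp only [commutatorElement_def]; group]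
        exact L.normK a⁻¹ (h.P_le_N (inv_mem ha.1)) _ (inv_mem (ha.2 y hy))⟩ }
  have hxC : x ∈ C := ⟨hx, fun y hy => by
    obtain ⟨j, hj⟩ := hcz y hy (L.central z hzK y hy).symm
    rw [hj]
    exact zpow_mem hzK j⟩
  have hCP : C = P := L.eq_P (fun p hp => ⟨L.DP hp, fun y hy => by
      rw [← commutatorElement_inv, L.defK]
      exact inv_mem (commutator_mem_commutator hp hy)⟩) (fun w hw => hw.1)
    (fun a ha w hw => ⟨h.bn.norm a (hTN ha) w hw.1, fun y hy => by
      have hy' : a⁻¹ * y * a ∈ P := by simpa using h.bn.norm a⁻¹ (inv_mem (hTN ha)) y hy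
      rw [show ⁅y, a * w * a⁻¹⁆ = a * ⁅a⁻¹ * y * a, w⁆ * a⁻¹ by simp only [commutatorElement_def]; group]
      exact L.normK a (hTN ha) _ (hw.2 _ hy')⟩) (x := x) hxC hxD
  have hle : D ≤ K := by
    rw [L.defD, commutator_le]
    exact fun y hy w hw => (show w ∈ C from hCP.ge hw).2 y hy
  have := Nat.le_of_dvd Nat.card_pos (card_dvd_of_le hle)
  rw [L.cardD, L.cardK] at this
  have := h.q_eq; have := h.d_big
  nlinarith

end Cfsg.Agent.Lib.ReeNine68
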