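import Cfsg.Agent.Lib.ReeNine68.Index
import Cfsg.Agent.Lib.ReeNine68.TI
import Cfsg.Agent.Lib.ReeNine68.Exponent

/-!
# Ree order: the cyclic subgroups of prime power order are not all TI

Owner: helper68.
-/

set_option autoImplicit false
set_option linter.style.haveILetI false
set_option linter.unusedSectionVars false

universe u

namespace Cfsg.Agent.Lib.ReeNine68

open Subgroup Cfsg.Agent.Lib.AllAbelian80.Ree
open Cfsg.Agent.Lib.ReeTorus80

variable {G : Type u} [Group G] [Fintype G] {q d r : ℕ} {t s : G} {E U T P N M Y W : Subgroup G}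

/-- A Sylow 3-subgroup has elements of order nine. -/
theorem exists_order_nine [IsSimpleGroup G] (h : Setting G q d t s E U T P N M Y W) (hr : q = 3 * r ^ 2)
    (hno : ∀ x : G, x ≠ 1 → orderOf x ∣ q ^ 2 - q + 1 →
      orderOf x ∣ q + 1 + 3 * r ∨ orderOf x ∣ q + 1 - 3 * r) :
    ∃ x ∈ P, x ^ 3 ≠ 1 := by
  obtain ⟨D, K, L⟩ := exists_layers h (index_commutator_lt h hr hno)
  exact L.exists_nine

/-- In a simple group of Ree type some cyclic subgroup of prime power order is not TI. -/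
theorem not_ti_ree [IsSimpleGroup G] (h : Setting G q d t s E U T P N M Y W) (hr : q = 3 * r ^ 2)
    (hno : ∀ x : G, x ≠ 1 → orderOf x ∣ q ^ 2 - q + 1 →
      orderOf x ∣ q + 1 + 3 * r ∨ orderOf x ∣ q + 1 - 3 * r)
    (hti : ∀ H : Subgroup G, IsCyclic H → IsPrimePow (Nat.card H) →
      ∀ g : G, H.map (MulAut.conj g).toMonoidHom = H ∨ H.map (MulAut.conj g).toMonoidHom ⊓ H = ⊥) :
    False := by
  obtain ⟨D, K, L⟩ := exists_layers h (index_commutator_lt h hr hno)
  obtain ⟨x, hx, h9⟩ := L.exists_nine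
  refine L.not_ti hx h9 fun g hg => ?_
  have hpow : IsPrimePow (Nat.card (zpowers x)) := by
    obtain ⟨f, hf⟩ := h.ree.pow3
    obtain ⟨k, -, hk⟩ := (Nat.dvd_prime_pow Nat.prime_three).1 (show orderOf x ∣ 3 ^ (f * 3) by
      rw [pow_mul, ← hf, ← h.bn.cardP]; exact Subgroup.orderOf_dvd_natCard P hx)
    rw [Nat.card_zpowers, hk]
    refine Nat.prime_three.isPrimePow.pow fun e => h9 ?_
    rw [e, pow_zero, orderOf_eq_one_iff] at hk
    rw [hk, one_pow]
  rcases hti (zpowers x) inferInstance hpow g with e | e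
  · have hm : g * x * g⁻¹ ∈ (zpowers x).map (MulAut.conj g).toMonoidHom := ⟨x, mem_zpowers x, rfl⟩
    rw [e, mem_zpowers_iff] at hm
    obtain ⟨i, hi⟩ := hm
    exact ⟨i, hi.symm⟩
  · refine absurd (mem_bot.1 (e ▸ mem_inf.2 ⟨⟨x ^ 3, pow_mem (mem_zpowers x) 3, ?_⟩,
      pow_mem (mem_zpowers x) 3⟩)) h9
    show g * x ^ 3 * g⁻¹ = x ^ 3
    rw [hg, mul_inv_cancel_right]

end Cfsg.Agent.Lib.ReeNine68
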