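import Cfsg.Agent.Lib.ReeNine68.IntFn
import Mathlib.GroupTheory.NoncommCoprod

/-!
# The two eigen-parts of a character at a commutative subgroup centralised by an involution

Owner: helper68.
-/

set_option autoImplicit false
set_option linter.style.haveILetI false
set_option linter.unusedSectionVars false

universe u

namespace Cfsg.Agent.Lib.ReeNine68

open Subgroup Cfsg.Agent.Lib.Characters.Basic Cfsg.Agent.Lib.Characters.Complete
open Cfsg.Agent.Lib.Characters.Linear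
open scoped ComplexConjugate

variable {G : Type u} [Group G] [Fintype G]

/-- A combination with integral coefficients of characters has integral inner products. -/
theorem intFn_sum {A : Type u} [Group A] [Fintype A] {ι : Type*} (s : Finset ι) (k : ι → ℤ)
    {φ : ι → A → ℂ} (hφ : ∀ i ∈ s, Cfsg.IsCharacter A (φ i)) :
    IntFn (∑ i ∈ s, (k i : ℂ) • φ i) := by
  intro χ
  choose! n hn using fun i hi => exists_classInner_nat (hφ i hi) (isCharacter_irr χ)
  refine ⟨∑ i ∈ s, k i * n i, ?_⟩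
  rw [classInner_sum_left, Int.cast_sum]
  refine Finset.sum_congr rfl fun i hi => ?_
  rw [Induced.Basic.classInner_smul_left, hn i hi]
  push_cast
  ring

/-- With an involution `τ` centralising the commutative `H`, a character is the sum, and its translate by
`τ` the difference, of two functions on `H` with integral inner products. -/
theorem exists_split (H : Subgroup G) [Fintype ↥H] (hH : ∀ a ∈ H, ∀ b ∈ H, a * b = b * a) {τ : G}
    (hτ : τ * τ = 1) (hc : ∀ a ∈ H, τ * a = a * τ) {χ : G → ℂ} (hχ : Cfsg.IsCharacter G χ) :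
    ∃ fp fm : ↥H → ℂ, IntFn fp ∧ IntFn fm ∧
      (∀ a : ↥H, χ a = fp a + fm a) ∧ ∀ a : ↥H, χ (τ * a) = fp a - fm a := by
  classical
  have hcomm : ∀ (m : ↥(zpowers τ)) (n : ↥H), Commute ((zpowers τ).subtype m) (H.subtype n) := by
    rintro ⟨m, hm⟩ n
    obtain ⟨j, rfl⟩ := mem_zpowers_iff.1 hm
    exact (show Commute τ n from hc n n.2).zpow_left j
  letI : Fintype ↥(zpowers τ) := Fintype.ofFinite _
  let φ : ↥(zpowers τ) × ↥H →* G :=
    MonoidHom.noncommCoprod (zpowers τ).subtype H.subtype hcomm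
  have hL : ∀ a b : ↥(zpowers τ) × ↥H, a * b = b * a := by
    rintro ⟨⟨a, ha⟩, c⟩ ⟨⟨b, hb⟩, e⟩
    obtain ⟨i, rfl⟩ := mem_zpowers_iff.1 ha
    obtain ⟨j, rfl⟩ := mem_zpowers_iff.1 hb
    refine Prod.ext (Subtype.ext ?_) (Subtype.ext (hH c c.2 e e.2))
    exact ((Commute.refl τ).zpow_zpow i j).eq
  letI := Fintype.ofFinite (Cfsg.IrrCharacter (↥(zpowers τ) × ↥H))
  obtain ⟨k, hk, -, -⟩ := exists_coeff hL
    (intFn_of_character (isCharacter_comp φ hχ))
  let t' : ↥(zpowers τ) × ↥H := (⟨τ, mem_zpowers τ⟩, 1)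
  let S : Finset (Cfsg.IrrCharacter (↥(zpowers τ) × ↥H)) :=
    Finset.univ.filter fun lam => (lam : ↥(zpowers τ) × ↥H → ℂ) t' = 1
  let part : Finset (Cfsg.IrrCharacter (↥(zpowers τ) × ↥H)) → ↥H → ℂ := fun s =>
    ∑ lam ∈ s, (k lam : ℂ) • ((lam : ↥(zpowers τ) × ↥H → ℂ) ∘ MonoidHom.inr _ _)
  have hint : ∀ s, IntFn (part s) := fun s =>
    intFn_sum s k fun lam _ => isCharacter_comp _ (isCharacter_irr lam)
  have happ : ∀ s a, part s a = ∑ lam ∈ s, (k lam : ℂ) * (lam : ↥(zpowers τ) × ↥H → ℂ) (1, a) :=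
    fun s a => by simp [part]
  have hmul : ∀ (lam : Cfsg.IrrCharacter (↥(zpowers τ) × ↥H)) x y,
      (lam : ↥(zpowers τ) × ↥H → ℂ) (x * y) =
        (lam : ↥(zpowers τ) × ↥H → ℂ) x * (lam : ↥(zpowers τ) × ↥H → ℂ) y := fun lam x y =>
    apply_mul_of_degree_one (isCharacter_irr lam) (degree_eq_one_of_comm hL lam) x y
  have hsign : ∀ lam : Cfsg.IrrCharacter (↥(zpowers τ) × ↥H), lam ∉ S →
      (lam : ↥(zpowers τ) × ↥H → ℂ) t' = -1 := by
    intro lam hlam
    have h1 : (lam : ↥(zpowers τ) × ↥H → ℂ) t' ^ 2 = 1 := by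
      rw [pow_two, ← hmul, show t' * t' = 1 from Prod.ext (Subtype.ext hτ) (one_mul 1)]
      exact degree_eq_one_of_comm hL lam
    exact (sq_eq_one_iff.1 h1).resolve_left fun e =>
      hlam (Finset.mem_filter.2 ⟨Finset.mem_univ _, e⟩)
  refine ⟨part S, part Sᶜ, hint _, hint _, fun a => ?_, fun a => ?_⟩
  · rw [happ, happ, Finset.sum_add_sum_compl, ← hk]
    simp [φ, MonoidHom.noncommCoprod]
  · rw [happ, happ, sub_eq_add_neg, ← Finset.sum_neg_distrib]
    have e : χ (τ * a) = (χ ∘ φ) (t' * (1, a)) := by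
      simp [φ, t', MonoidHom.noncommCoprod]
    rw [e, hk, ← Finset.sum_add_sum_compl S]
    refine congrArg₂ (· + ·) (Finset.sum_congr rfl fun lam hl => ?_)
      (Finset.sum_congr rfl fun lam hl => ?_)
    · rw [hmul, (Finset.mem_filter.1 hl).2, one_mul]
    · rw [hmul, hsign lam (Finset.mem_compl.1 hl)]; ring

/-- The values at one of the two parts, and the sum of squares. -/
theorem exists_split_values (H : Subgroup G) [Fintype ↥H] (hH : ∀ a ∈ H, ∀ b ∈ H, a * b = b * a) {τ : G}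
    (hτ : τ * τ = 1) (hc : ∀ a ∈ H, τ * a = a * τ) {χ : G → ℂ} (hχ : Cfsg.IsCharacter G χ) :
    ∃ (fp fm : ↥H → ℂ) (Dp Dm : ℤ), IntFn fp ∧ IntFn fm ∧ fp 1 = Dp ∧ fm 1 = Dm ∧
      χ 1 = ((Dp + Dm : ℤ) : ℂ) ∧ χ τ = ((Dp - Dm : ℤ) : ℂ) ∧
      (∀ a : ↥H, χ (τ * a) = fp a - fm a) ∧ ∀ a : ↥H,
      Complex.normSq (fp a) + Complex.normSq (fm a) =
        (Complex.normSq (χ a) + Complex.normSq (χ (τ * a))) / 2 := by
  obtain ⟨fp, fm, hp, hm, h1, h2⟩ := exists_split H hH hτ hc hχ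
  letI := Fintype.ofFinite (Cfsg.IrrCharacter ↥H)
  have hA : ∀ a b : ↥H, a * b = b * a := fun a b => Subtype.ext (hH a a.2 b b.2)
  obtain ⟨kp, -, ep, -⟩ := exists_coeff hA hp
  obtain ⟨km, -, em, -⟩ := exists_coeff hA hm
  refine ⟨fp, fm, _, _, hp, hm, ep, em, ?_, ?_, h2, fun a => ?_⟩
  · rw [Int.cast_add, ← ep, ← em, ← h1 1, Subgroup.coe_one]
  · rw [Int.cast_sub, ← ep, ← em, ← h2 1, Subgroup.coe_one, mul_one]
  · rw [h1 a, h2 a, Complex.normSq_add, Complex.normSq_sub]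
    ring

end Cfsg.Agent.Lib.ReeNine68
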